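import Cfsg.Agent.MinIndexPSU3.EvenField
import Cfsg.Agent.Invol.ZStar

/-!
In even characteristic a transitive subgroup containing a transvection is everything.
-/

set_option autoImplicit false

namespace Cfsg.Agent.MinIndexPSU3

open AutPSU Matrix Classical.Herm

variable {q : ℕ} {F : Type*} [Field F] [Fintype F] {σ : F →+* F} (hu : UCtx σ q)
include hu

/-- Containing all transvections at a point. -/
theorem top_of_full {H : Subgroup (Su 3 F q)} (hq : 3 ≤ q) (hH : Big σ H) {e m f : Vn 3 F} (h : Fr σ e m f)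
    (hall : ∀ c : F, c + σ c = 0 → tr hu e c ∈ H) : H = ⊤ := by
  rw [eq_top_iff, ← Classical.closure_unitaryTransvection (n := 3) hu.toIsInvol hu.pow hu.card_fix (by omega)
    (by omega)]
  refine (Subgroup.closure_le _).2 ?_
  rintro g ⟨v, c, hv, hg⟩
  have happ : ∀ x, mat g *ᵥ x = x + (c * hB 3 σ v x) • v := fun x => by
    show ((g : Matrix.SpecialLinearGroup (Fin 3) F) : Matrix (Fin 3) (Fin 3) F) *ᵥ x = _
    rw [hg, Classical.unitaryTransvection_mulVec hu.pow]
  by_cases hv0 : v = 0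
  · have : g = 1 := su_ext_mulVec fun x => by rw [happ, hv0, mat_one_mulVec]; simp
    rw [this]; exact H.one_mem
  have hc : c + σ c = 0 := (Classical.isometry_transvection_iff hu.toIsInvol hv0 hv c).1 fun x y => by
    rw [← happ, ← happ]; exact hB_mat hu g x y
  have hg' : g = tr hu v c := su_ext_mulVec fun x => by rw [happ, tr_mulVec hu hv hc]
  obtain ⟨k, hk, a, hka⟩ := hH.trans e v h.hp.e_ne h.hp.ee hv0 hv
  have ha : a ≠ 0 := smul_ne_zero_of_eq hu h.hp.e_ne hka
  have hN : a * σ a ≠ 0 := mul_ne_zero ha ((map_ne_zero σ).2 ha)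
  have hc' : c / (a * σ a) + σ (c / (a * σ a)) = 0 := by
    rw [map_div₀, map_mul, hu.invol, mul_comm (σ a) a, ← add_div, hc, zero_div]
  have : tr hu v c = k * tr hu e (c / (a * σ a)) * k⁻¹ := by
    rw [conj_tr hu k h.hp.ee hc', hka, tr_smul hu hv hc', mul_div_cancel₀ _ hN]
  rw [hg', this]
  exact H.mul_mem (H.mul_mem hk (hall _ hc')) (H.inv_mem hk)

variable [CharP F 2]

theorem no_eight (hq : q = 8) {H : Subgroup (Su 3 F q)} (hH : Big σ H) {e m f : Vn 3 F} (h : Fr σ e m f)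
    (hw : Nat.card (wGrp hu h H) = 2) (hV : Nat.card (vGrp hu h H) ≤ 4) (hA : Nat.card (torA h H) ≤ 9) : False := by
  classical
  subst hq
  have hbig := hH.big e h.hp.e_ne h.hp.ee
  replace hbig : 63 ≤ Nat.card ↥(H ⊓ lineStab e) := le_trans (by norm_num) hbig
  have hx : Nat.card ↥(H ⊓ lineStab e) = 72 := by
    have hAd : Nat.card (torA h H) ∣ 63 := by
      have h0 := (torA h H).card_subgroup_dvd_card
      rw [Nat.card_units, card_F hu] at h0
      exact h0.trans (dvd_of_eq (by norm_num))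
    rw [card_point_stab hu h H, card_unip hu h H, hw] at hbig ⊢
    have hV4 : Nat.card (vGrp hu h H) = 4 := by
      by_contra hne
      have := Nat.mul_le_mul (show Nat.card (vGrp hu h H) ≤ 3 by omega) hA
      nlinarith
    rw [hV4] at hbig ⊢
    have hA9 : Nat.card (torA h H) = 9 := by
      rcases (show Nat.card (torA h H) = 8 ∨ Nat.card (torA h H) = 9 by omega) with h8 | h9
      · rw [h8] at hAd; omega
      · exact h9
    omega
  have hcard : Nat.card H = 36936 := by
    rw [Big.card hu H hH h.hp.e_ne h.hp.ee, hx]; norm_num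
  obtain ⟨w0, hw0, hw00⟩ : ∃ c ∈ wGrp hu h H, c ≠ 0 := by
    by_contra hc
    push Not at hc
    have hsub : Subsingleton (wGrp hu h H) := ⟨fun a b => Subtype.ext (by rw [hc _ a.2, hc _ b.2])⟩
    have := Finite.card_le_one_iff_subsingleton.2 hsub
    omega
  have huniq : ∀ c ∈ wGrp hu h H, c ≠ 0 → c = w0 := fun c hc hc0 => by
    by_contra hne
    haveI : Fintype (wGrp hu h H) := Fintype.ofFinite _
    have h3 : 2 < Fintype.card (wGrp hu h H) := Fintype.two_lt_card_iff.2
      ⟨⟨c, hc⟩, ⟨w0, hw0⟩, 0, fun h0 => hne (congrArg Subtype.val h0), fun h0 => hc0 (congrArg Subtype.val h0),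
        fun h0 => hw00 (congrArg Subtype.val h0)⟩
    rw [← Nat.card_eq_fintype_card] at h3
    omega
  -- the isolated involution
  let z : H := ⟨tr hu e w0, hw0.2⟩
  have hz2 : z * z = 1 := Subtype.ext (by
    show tr hu e w0 * tr hu e w0 = 1
    rw [tr_mul hu h.hp.ee hw0.1 hw0.1, CharTwo.add_self_eq_zero]; exact eS_zero hu h.hp.ee)
  have hz1 : z ≠ 1 := fun h0 => hw00 ((tr_eq_one hu h.hp.e_ne h.hp.ee hw0.1).1 (congrArg Subtype.val h0))
  have hiso : Cfsg.IsIsolatedInvolution z := by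
    refine ⟨orderOf_eq_prime (by rw [pow_two, hz2]) hz1, fun g hcomm => ?_⟩
    have hg0 : g.1 * tr hu e w0 * g.1⁻¹ = tr hu (mat g.1 *ᵥ e) w0 := conj_tr hu g.1 h.hp.ee hw0.1
    have hge : hB 3 σ (mat g.1 *ᵥ e) (mat g.1 *ᵥ e) = 0 := by rw [hB_mat hu]; exact h.hp.ee
    have h1 : hB 3 σ e (mat g.1 *ᵥ e) = 0 :=
      (tr_commute_iff hu h.hp.e_ne (mat_mulVec_ne_zero g.1 h.hp.e_ne) h.hp.ee hge hw0.1 hw0.1 hw00 hw00).1 (by
        show _ * _ = _ * _
        rw [← hg0]; exact congrArg Subtype.val hcomm.eq)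
    obtain ⟨a, ha⟩ := orth_prop hu h.hp.e_ne h.hp.ee hge h1
    have ha0 : a ≠ 0 := smul_ne_zero_of_eq hu h.hp.e_ne ha
    have hmem := (torus_invariant hu h H (a := Units.mk0 a ha0) ((mem_torA hu h H).2 ⟨g.1, g.2, ha⟩)).1 w0 hw0
    have h2 := huniq _ hmem (mul_ne_zero (mul_ne_zero ha0 ((map_ne_zero σ).2 ha0)) hw00)
    refine Subtype.ext ?_
    show g.1 * tr hu e w0 * g.1⁻¹ = tr hu e w0
    rw [hg0, ha, tr_smul hu h.hp.ee hw0.1]
    exact congrArg (tr hu e) h2
  set O : Subgroup H := Cfsg.oddCore H with hO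
  have hOodd : Odd (Nat.card O) := Nat.coprime_two_right.1 (Core.coprime_card_pPrimeCore (p := 2) (G := H))
  have hzi : z⁻¹ = z := inv_eq_of_mul_eq_one_right hz2
  -- the odd core is transitive
  have htrans : ∀ v : Vn 3 F, v ≠ 0 → hB 3 σ v v = 0 → ∃ o ∈ O, ∃ a : F, mat o.1 *ᵥ e = a • v := by
    intro v hv0 hv
    obtain ⟨g, hg, a, hga⟩ := hH.trans e v h.hp.e_ne h.hp.ee hv0 hv
    set gH : H := ⟨g, hg⟩
    set u := gH * z * gH⁻¹ with hu'
    have huu : u * u = 1 := by
      rw [hu', conj_mul, hz2, mul_one, mul_inv_cancel]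
    have hx : u * z ∈ O := by
      have := O.inv_mem (Invol.zstar hiso gH)
      rw [_root_.mul_inv_rev, _root_.mul_inv_rev, _root_.mul_inv_rev, inv_inv, inv_inv, hzi] at this
      simpa [hu', mul_assoc] using this
    set x := u * z with hx_def
    have hord : Odd (orderOf x) := by
      refine hOodd.of_dvd_nat ?_
      have := orderOf_dvd_natCard (⟨x, hx⟩ : O)
      rwa [Subgroup.orderOf_mk] at this
    have hinv : z * x * z = x⁻¹ := by
      rw [hx_def, mul_assoc, mul_assoc, hz2, mul_one, _root_.mul_inv_rev, hzi, inv_eq_of_mul_eq_one_right huu]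
    have hr := dihedral_root hord (pow_orderOf_eq_one x) hz2 hinv
    refine ⟨x ^ ((orderOf x + 1) / 2), O.pow_mem hx _, ?_⟩
    set o := x ^ ((orderOf x + 1) / 2)
    have h1 : o * z * o⁻¹ = u := hr.trans (by rw [hx_def, mul_assoc, hz2, mul_one])
    have h2 : o.1 * tr hu e w0 * o.1⁻¹ = g * tr hu e w0 * g⁻¹ := congrArg Subtype.val h1
    rw [conj_tr hu o.1 h.hp.ee hw0.1, conj_tr hu g h.hp.ee hw0.1] at h2
    obtain ⟨b, hb⟩ := tr_inj hu (mat_mulVec_ne_zero g h.hp.e_ne) (by rw [hB_mat hu]; exact h.hp.ee)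
      (by rw [hB_mat hu]; exact h.hp.ee) hw0.1 hw0.1 hw00 h2.symm
    exact ⟨b * a, by rw [hb, hga, smul_smul]⟩
  have h513 : 513 ∣ Nat.card O := by
    have : MulAction.IsPretransitive O (Pts hu) := by
      refine ⟨fun P Q => ?_⟩
      obtain ⟨v, hv0, hv, rfl⟩ := exists_mkPt hu P
      obtain ⟨w, hw', hww, rfl⟩ := exists_mkPt hu Q
      obtain ⟨o, ho, a, hoa⟩ := htrans v hv0 hv
      obtain ⟨o', ho', b, hob⟩ := htrans w hw' hww
      have h1 : o.1 • mkPt hu e h.hp.e_ne h.hp.ee = mkPt hu v hv0 hv := by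
        rw [smul_mkPt hu o.1 h.hp.e_ne h.hp.ee, mkPt_eq_iff hu]; exact ⟨a, hoa.symm⟩
      have h2 : o'.1 • mkPt hu e h.hp.e_ne h.hp.ee = mkPt hu w hw' hww := by
        rw [smul_mkPt hu o'.1 h.hp.e_ne h.hp.ee, mkPt_eq_iff hu]; exact ⟨b, hob.symm⟩
      refine ⟨⟨o', ho'⟩ * ⟨o, ho⟩⁻¹, ?_⟩
      show (o'.1 * o.1⁻¹) • mkPt hu v hv0 hv = _
      rw [mul_smul, ← h1, inv_smul_smul, h2]
    have h1 := Subgroup.index_dvd_card (MulAction.stabilizer O (mkPt hu e h.hp.e_ne h.hp.ee))
    rw [MulAction.index_stabilizer_of_transitive, card_pts hu] at h1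
    exact h1
  have hOdvd : Nat.card O ∣ 4617 := by
    refine (Nat.Coprime.dvd_of_dvd_mul_left (k := Nat.card O) (m := 8) ?_ ?_)
    · exact (Nat.coprime_two_right.2 hOodd).pow_right 3
    · have := O.card_subgroup_dvd_card
      rw [hcard] at this
      exact this
  haveI : Fact (Nat.Prime 19) := ⟨by norm_num⟩
  let Q : Sylow 19 O := default
  have h19 : 19 ∣ Nat.card O := Dvd.dvd.trans (by norm_num) h513
  have hQcard : Nat.card Q = 19 := by
    obtain ⟨k, hk⟩ := Q.isPGroup'.exists_card_eq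
    have h1 : 19 ^ k ∣ 4617 := hk ▸ ((Q : Subgroup O).card_subgroup_dvd_card.trans hOdvd)
    have h2 : 19 ∣ Nat.card Q := Q.dvd_card_of_dvd_card h19
    have hk1 : k ≤ 1 := by
      by_contra hk1
      have := (pow_dvd_pow 19 (show 2 ≤ k by omega)).trans h1
      norm_num at this
    interval_cases k
    · rw [hk] at h2; norm_num at h2
    · rw [hk, pow_one]
  have hn1 : Nat.card (Sylow 19 O) = 1 := by
    have h1 : Nat.card (Sylow 19 O) ∣ 4617 :=
      (Sylow.card_dvd_index Q).trans ((Subgroup.index_dvd_card _).trans hOdvd)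
    have h2 : Nat.card (Sylow 19 O) % 19 = 1 := card_sylow_modEq_one 19 O
    have h3 : Nat.card (Sylow 19 O) ∣ 3 ^ 5 := by
      refine Nat.Coprime.dvd_of_dvd_mul_left (m := 19) ?_ (h1.trans (dvd_of_eq (by norm_num)))
      exact Nat.Coprime.symm ((Nat.Prime.coprime_iff_not_dvd (by norm_num)).2 fun h0 => by omega)
    obtain ⟨i, hi, hi'⟩ := (Nat.dvd_prime_pow Nat.prime_three).1 h3
    rw [hi'] at h2 ⊢
    interval_cases i <;> revert h2 <;> norm_num
  have : Subsingleton (Sylow 19 O) := (Nat.card_eq_one_iff_unique.1 hn1).1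
  haveI : (Q : Subgroup O).Characteristic := Sylow.characteristic_of_normal Q (Sylow.normal_of_subsingleton Q)
  let Q₀ : Subgroup H := (Q : Subgroup O).map O.subtype
  haveI : Q₀.Normal := ConjAct.normal_of_characteristic_of_normal
  have hQ₀ : Nat.card Q₀ = 19 := by
    rw [Subgroup.card_map_of_injective O.subtype_injective]; exact hQcard
  haveI : IsCyclic Q₀ := isCyclic_of_prime_card (p := 19) hQ₀
  -- a two-subgroup of order eight centralises an element
  haveI : Fact (Nat.Prime 2) := ⟨Nat.prime_two⟩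
  let P : Sylow 2 H := default
  have hP8 : 8 ∣ Nat.card P := by
    have := P.card_eq_multiplicity
    rw [this]
    refine dvd_trans (dvd_of_eq (by norm_num : (8 : ℕ) = 2 ^ 3))
      (pow_dvd_pow 2 (?_ : 3 ≤ (Nat.card H).factorization 2))
    rw [← Nat.Prime.pow_dvd_iff_le_factorization Nat.prime_two (by omega), hcard]
    norm_num
  let ψ : P →* MulAut Q₀ := MulAut.conjNormal.comp (P : Subgroup H).subtype
  have hψ : ψ.ker ≠ ⊥ := by
    intro h0
    have h1 := Nat.card_congr (MonoidHom.ofInjective ((MonoidHom.ker_eq_bot_iff ψ).1 h0)).toEquiv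
    have h2 : Nat.card P ∣ Nat.card (MulAut Q₀) := h1 ▸ Subgroup.card_subgroup_dvd_card ψ.range
    rw [IsCyclic.card_mulAut, hQ₀, Nat.totient_prime (by norm_num)] at h2
    have := hP8.trans h2
    norm_num at this
  obtain ⟨y, hy, hy1⟩ := (Subgroup.ne_bot_iff_exists_ne_one.1 hψ |> fun ⟨⟨y, hy⟩, hy1⟩ =>
    (⟨y, hy, fun h0 => hy1 (Subtype.ext h0)⟩ : ∃ y, y ∈ ψ.ker ∧ y ≠ 1))
  obtain ⟨s, hs⟩ := (IsPGroup.iff_orderOf.1 P.isPGroup') y
  have hs0 : s ≠ 0 := fun h0 => hy1 (orderOf_eq_one_iff.1 (by rw [hs, h0, pow_zero]))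
  set y' := y ^ 2 ^ (s - 1) with hy'
  have hy'2 : y' * y' = 1 := by
    rw [hy', ← pow_add, ← two_mul, ← pow_succ', show s - 1 + 1 = s by omega, ← hs, pow_orderOf_eq_one]
  have hy'1 : y' ≠ 1 := fun h0 => by
    have := Nat.le_of_dvd (by positivity) (orderOf_dvd_of_pow_eq_one h0)
    rw [hs] at this
    exact absurd this (not_le.2 (Nat.pow_lt_pow_right (by omega) (by omega)))
  have hy'k : y' ∈ ψ.ker := Subgroup.pow_mem _ hy _
  obtain ⟨v, d, hv0, hv, hd, hd0, hyv⟩ := invol_is_tr hu (g := y'.1.1)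
    (by rw [← Subgroup.coe_mul, ← Subgroup.coe_mul, hy'2]; rfl)
    (fun h0 => hy'1 (Subtype.ext (Subtype.ext h0)))
  have hQv : (Q₀.map H.subtype) ≤ H ⊓ lineStab v := by
    rintro x ⟨c, hc, rfl⟩
    refine Subgroup.mem_inf.2 ⟨c.2, fix_of_commute_tr hu hv0 hv hd hd0 ?_⟩
    have h1 : y'.1 * c * y'.1⁻¹ = c := by
      have := congrArg Subtype.val (DFunLike.congr_fun (MonoidHom.mem_ker.1 hy'k) ⟨c, hc⟩)
      simpa [ψ] using this
    have h2 : c * y'.1 * c⁻¹ = y'.1 := by
      rw [mul_inv_eq_iff_eq_mul.1 h1 |>.symm, mul_inv_cancel_right]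
    rw [← hyv]
    exact congrArg Subtype.val h2
  have hv72 : Nat.card ↥(H ⊓ lineStab v) = 72 := by
    have h1 := Big.card hu H hH hv0 hv
    rw [Big.card hu H hH h.hp.e_ne h.hp.ee, hx] at h1
    exact (Nat.eq_of_mul_eq_mul_left (Nat.succ_pos _) h1).symm
  have h1 := Subgroup.card_dvd_of_le hQv
  rw [Subgroup.card_map_of_injective H.subtype_injective, hQ₀, hv72] at h1
  norm_num at h1

theorem top_of_transvection_even (hq : 3 ≤ q) {H : Subgroup (Su 3 F q)} (hH : Big σ H) {e m f : Vn 3 F}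
    (h : Fr σ e m f) {w0 : F} (hw0 : w0 ∈ wGrp hu h H) (hw00 : w0 ≠ 0) : H = ⊤ := by
  classical
  obtain ⟨w, r, D⟩ := exists_fieldData hu hH h hw0 hw00
  obtain ⟨w2, hqw, hcw, hca, hb⟩ := D
  have hr0 : r ≠ 0 := fun h0 => by rw [h0, pow_zero] at hqw; omega
  by_cases hr1 : r = 1
  · refine top_of_full hu hq hH h fun c hc => ?_
    rw [hr1, pow_one] at hqw
    obtain ⟨k, hk0, hk⟩ := skew_exists hu
    have hk' : σ k = -k := eq_neg_of_add_eq_zero_right hk
    let S : Set F := {c | c + σ c = 0}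
    have hS : S.ncard ≤ q := by
      rw [← Nat.card_coe_set_eq]
      calc Nat.card S ≤ Nat.card (fixField σ) := by
            refine Nat.card_le_card_of_injective (fun s => ⟨s.1 / k, ?_⟩) fun a b hab =>
              Subtype.ext ((div_left_inj' hk0).1 (congrArg Subtype.val hab))
            show σ (s.1 / k) = s.1 / k
            rw [map_div₀, hk', eq_neg_of_add_eq_zero_right s.2, neg_div_neg_eq]
        _ = q := hu.card_fix
    have heq : (wGrp hu h H : Set F) = S := Set.eq_of_subset_of_ncard_le (fun x hx => hx.1)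
      (by rw [← Nat.card_coe_set_eq (wGrp hu h H : Set F)]; exact hS.trans (hqw.trans hcw.symm).le) (Set.toFinite _)
    exact ((Set.ext_iff.1 heq c).2 hc).2
  · exfalso
    have hr2 : 2 ≤ r := by omega
    have hbig := hH.big e h.hp.e_ne h.hp.ee
    rw [card_point_stab hu h H, card_unip hu h H, hcw] at hbig
    set V := Nat.card (vGrp hu h H)
    set A := Nat.card (torA h H)
    have hsq : q ^ 2 - 1 = (q + 1) * (q - 1) := by simpa using Nat.sq_sub_sq q 1
    have hwq : w * w ≤ q := by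
      rw [hqw, ← pow_two]; exact Nat.pow_le_pow_right (by omega) hr2
    by_cases hV : ∀ α ∈ vGrp hu h H, α = 0
    · have hV1 : V ≤ 1 := Finite.card_le_one_iff_subsingleton.2
        ⟨fun a b => Subtype.ext (by rw [hV _ a.2, hV _ b.2])⟩
      have h1 : V * w * A ≤ 1 * w * ((q + 1) * (w - 1)) := Nat.mul_le_mul (Nat.mul_le_mul hV1 le_rfl) hca
      obtain ⟨w', rfl⟩ : ∃ k, w = k + 2 := ⟨w - 2, by omega⟩
      rw [hsq] at hbig
      have h2 := hbig.trans h1
      rw [show 1 * (w' + 2) * ((q + 1) * (w' + 2 - 1)) = (q + 1) * ((w' + 2) * (w' + 1)) by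
        rw [show w' + 2 - 1 = w' + 1 by omega]; ring] at h2
      have h3 := Nat.le_of_mul_le_mul_left h2 (by omega)
      have : (w' + 2) * (w' + 1) + (w' + 2) = (w' + 2) * (w' + 2) := by ring
      omega
    · push Not at hV
      obtain ⟨α₀, hα₀, hα₀0⟩ := hV
      obtain ⟨S, hS0, hSc, hVS, hSA⟩ := hb α₀ hα₀ hα₀0
      have hA3 : A ≤ 3 * (S.ncard - 1) := card_tau_le hu (torA h H) S hS0 hSA
      by_cases hev : Even r
      · rw [if_pos hev] at hSc
        have h1 : V * w * A ≤ w * w * (3 * (w - 1)) :=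
          Nat.mul_le_mul (Nat.mul_le_mul (hVS.trans hSc) le_rfl) (hA3.trans (by omega))
        obtain ⟨w', rfl⟩ : ∃ k, w = k + 2 := ⟨w - 2, by omega⟩
        rw [show w' + 2 - 1 = w' + 1 by omega] at h1
        have h2 := hbig.trans h1
        have h3 : ((w' + 2) * (w' + 2)) ^ 2 ≤ q ^ 2 := Nat.pow_le_pow_left hwq 2
        have h4 : q ^ 2 ≤ (w' + 2) * (w' + 2) * (3 * (w' + 1)) + 1 := by omega
        nlinarith
      · rw [if_neg hev] at hSc
        have hr3 : 3 ≤ r := by
          rw [Nat.not_even_iff_odd] at hev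
          obtain ⟨j, hj⟩ := hev; omega
        have h1 : V * w * A ≤ w * w * w * (3 * (w * w - 1)) :=
          Nat.mul_le_mul (Nat.mul_le_mul (hVS.trans hSc) le_rfl) (hA3.trans (by omega))
        have h2 := hbig.trans h1
        rcases (show w = 2 ∨ 3 ≤ w by omega) with rfl | hw3
        · have hq8 : r = 3 := by
            by_contra hne
            have h5 : 5 ≤ r := by
              rw [Nat.not_even_iff_odd] at hev
              obtain ⟨j, hj⟩ := hev; omega
            have h6 : (2 ^ 5) ^ 2 ≤ q ^ 2 := Nat.pow_le_pow_left (hqw ▸ Nat.pow_le_pow_right (by omega) h5) 2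
            norm_num at h2 h6
            omega
          subst hq8
          exact no_eight hu hqw hH h hcw (hVS.trans hSc) (hca.trans (by rw [hqw]; norm_num))
        · have h3 : (w ^ 3) ^ 2 ≤ q ^ 2 := Nat.pow_le_pow_left (hqw ▸ Nat.pow_le_pow_right (by omega) hr3) 2
          have h4 : 1 ≤ w * w := by nlinarith
          have h5 : q ^ 2 ≤ w * w * w * (3 * (w * w)) := by
            have h6 : 0 < w * w * w := by positivity
            have h7 : w * w * w * (3 * (w * w - 1)) + 1 ≤ w * w * w * (3 * (w * w)) :=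
              Nat.succ_le_of_lt (Nat.mul_lt_mul_of_pos_left (by omega) h6)
            omega
          have h8 : w * w * w * (3 * (w * w)) = 3 * w ^ 5 := by ring
          have h9 : (w ^ 3) ^ 2 = w * w ^ 5 := by ring
          rcases (show w = 3 ∨ 4 ≤ w by omega) with rfl | hw4
          · norm_num at h2 h3
            omega
          · have h10 : 4 * w ^ 5 ≤ w * w ^ 5 := Nat.mul_le_mul_right _ hw4
            have h11 : 0 < w ^ 5 := by positivity
            omega

end Cfsg.Agent.MinIndexPSU3
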