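import Cfsg.Agent.MinIndexPSU3.FreeBase

/-!
There is no large transitive subgroup without transvections, except for q = 5.
-/

set_option autoImplicit false

namespace Cfsg.Agent.MinIndexPSU3

open AutPSU Matrix Classical.Herm

variable {q : ℕ} {F : Type*} [Field F] [Fintype F] {σ : F →+* F} (hu : UCtx σ q)
include hu

theorem card_point_stab_free {e m f : Vn 3 F} (h : Fr σ e m f) {H : Subgroup (Su 3 F q)}
    (hW : ∀ c : F, c + σ c = 0 → tr hu e c ∈ H → c = 0) :
    Nat.card ↥(H ⊓ lineStab e) = Nat.card (vGrp hu h H) * Nat.card (torA h H) := by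
  rw [card_point_stab hu h H, card_unip hu h H, wGrp_bot hu h hW, mul_one]

theorem card_point_stab_eq {e : Vn 3 F} (he0 : e ≠ 0) (he : hB 3 σ e e = 0) {v : Vn 3 F} (hv0 : v ≠ 0)
    (hv : hB 3 σ v v = 0) {H : Subgroup (Su 3 F q)} (hH : Big σ H) :
    Nat.card ↥(H ⊓ lineStab (q := q) v) = Nat.card ↥(H ⊓ lineStab (q := q) e) := by
  have h1 := Big.card hu H hH hv0 hv
  rw [Big.card hu H hH he0 he] at h1
  exact (Nat.eq_of_mul_eq_mul_left (Nat.succ_pos _) h1).symm

omit hu [Fintype F] in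
theorem sylow_count {n : ℕ} (h1 : n ∣ 2 ^ 3 * 3 ^ 3 * 5 * 11) (h2 : n % 37 = 1) (hn : n ≠ 1) : n = 297 ∨ n = 3960 := by
  obtain ⟨x, d, hx', hd, hxd⟩ := Nat.dvd_mul.1 h1
  obtain ⟨x', c, hx'', hc, hxc⟩ := Nat.dvd_mul.1 hx'
  obtain ⟨a, b, ha, hb, hab⟩ := Nat.dvd_mul.1 hx''
  subst hxd hxc hab
  obtain ⟨i, hi, rfl⟩ := (Nat.dvd_prime_pow Nat.prime_two).1 ha
  obtain ⟨j, hj, rfl⟩ := (Nat.dvd_prime_pow Nat.prime_three).1 hb
  rcases (Nat.dvd_prime (by norm_num : Nat.Prime 5)).1 hc with rfl | rfl <;>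
    rcases (Nat.dvd_prime (by norm_num : Nat.Prime 11)).1 hd with rfl | rfl <;>
    interval_cases i <;> interval_cases j <;> norm_num at *

/-- Eleven is impossible. -/
theorem no_eleven (hq : q = 11) {H : Subgroup (Su 3 F q)} (hH : Big σ H) {e m f : Vn 3 F} (h : Fr σ e m f)
    (hV : Nat.card (vGrp hu h H) = 11) (hW : ∀ c : F, c + σ c = 0 → tr hu e c ∈ H → c = 0)
    (hA : Nat.card (torA h H) = 30) : False := by
  classical
  subst hq
  have hx : Nat.card ↥(H ⊓ lineStab e) = 330 := by rw [card_point_stab_free hu h hW, hV, hA]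
  have hcard : Nat.card H = 439560 := by
    rw [Big.card hu H hH h.hp.e_ne h.hp.ee, hx]; norm_num
  haveI : Fact (Nat.Prime 11) := ⟨by norm_num⟩
  haveI : Fact (Nat.Prime 37) := ⟨by norm_num⟩
  haveI : Fact (Nat.Prime 3) := ⟨by norm_num⟩
  have hS : Nat.card ↥(H ⊓ flagFix (q := 11) σ e) = 11 := by rw [card_unip hu h H, hV, wGrp_bot hu h hW]
  obtain ⟨s, hs⟩ := exists_prime_orderOf_dvd_card' (G := ↥(H ⊓ flagFix (q := 11) σ e)) 11 (by rw [hS])
  let sH : H := ⟨s.1, (Subgroup.mem_inf.1 s.2).1⟩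
  have hsH : orderOf sH = 11 := ((Subgroup.orderOf_mk s.1 _).trans (Subgroup.orderOf_coe s)).trans hs
  have hs1 : s.1 ≠ 1 := fun h0 => by
    rw [show s = 1 from Subtype.ext h0, orderOf_one] at hs; omega
  have hfixe : ∀ {v : Vn 3 F}, v ≠ 0 → hB 3 σ v v = 0 → s.1 ∈ lineStab v → ∃ a : F, v = a • e :=
    fun hv0 hv hsv => flag_fix_unique hu h (Subgroup.mem_inf.1 s.2).2 hs1 hv0 hv hsv
  let R : Sylow 37 H := default
  have h37 : 37 ∣ Nat.card H := by rw [hcard]; norm_num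
  have hR : Nat.card R = 37 := by
    obtain ⟨k, hk⟩ := R.isPGroup'.exists_card_eq
    have h1 : 37 ^ k ∣ 439560 := hcard ▸ hk ▸ (R : Subgroup H).card_subgroup_dvd_card
    have h2 : 37 ∣ Nat.card R := R.dvd_card_of_dvd_card h37
    have hk1 : k ≤ 1 := by
      by_contra hk1
      have := (pow_dvd_pow 37 (show 2 ≤ k by omega)).trans h1
      norm_num at this
    interval_cases k
    · rw [hk] at h2; norm_num at h2
    · rw [hk, pow_one]
  have hRidx : (R : Subgroup H).index = 11880 := by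
    have := (R : Subgroup H).index_mul_card
    rw [hR, hcard] at this
    omega
  -- a conjugate stabiliser contains no element of order thirty-seven
  have hno : ∀ y : H, orderOf y = 37 → ∀ {v : Vn 3 F}, v ≠ 0 → hB 3 σ v v = 0 → y.1 ∉ lineStab v := by
    intro y hy v hv0 hv hyv
    have h1 : orderOf y ∣ Nat.card ↥(H ⊓ lineStab v) := by
      rw [← Subgroup.orderOf_coe]
      have := orderOf_dvd_natCard (⟨y.1, Subgroup.mem_inf.2 ⟨y.2, hyv⟩⟩ : ↥(H ⊓ lineStab v))
      rwa [Subgroup.orderOf_mk] at this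
    rw [hy, card_point_stab_eq hu h.hp.e_ne h.hp.ee hv0 hv hH, hx] at h1
    norm_num at h1
  have hn : Nat.card (Sylow 37 H) ≠ 1 := by
    intro hn1
    have : Subsingleton (Sylow 37 H) := (Nat.card_eq_one_iff_unique.1 hn1).1
    haveI : (R : Subgroup H).Normal := Sylow.normal_of_subsingleton R
    haveI : IsCyclic (R : Subgroup H) := isCyclic_of_prime_card (p := 37) hR
    obtain ⟨y, hy⟩ := exists_prime_orderOf_dvd_card' (G := (R : Subgroup H)) 37 (by rw [hR])
    let ψ : H →* MulAut (R : Subgroup H) := MulAut.conjNormal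
    have h1 : orderOf (ψ sH) ∣ 11 := (orderOf_map_dvd ψ sH).trans (dvd_of_eq hsH)
    have h2 : orderOf (ψ sH) ∣ 36 := by
      have := orderOf_dvd_natCard (ψ sH)
      rwa [IsCyclic.card_mulAut, show Nat.card (R : Subgroup H) = 37 from hR,
        Nat.totient_prime (by norm_num)] at this
    have h3 : ψ sH = 1 := orderOf_eq_one_iff.1
      (Nat.eq_one_of_dvd_coprimes (by norm_num : Nat.Coprime 11 36) h1 h2)
    have h4 : s.1 * y.1.1 * s.1⁻¹ = y.1.1 := by
      have := congrArg (fun z : (R : Subgroup H) => z.1.1) (DFunLike.congr_fun h3 y)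
      simpa [ψ, sH] using this
    obtain ⟨a, ha⟩ : ∃ a : F, mat y.1.1 *ᵥ e = a • e := by
      refine hfixe (mat_mulVec_ne_zero _ h.hp.e_ne) (by rw [hB_mat hu]; exact h.hp.ee) (mem_lineStab.2 ⟨1, ?_⟩)
      rw [one_smul, ← mat_mul_mulVec, mul_inv_eq_iff_eq_mul.1 h4, mat_mul_mulVec,
        (Subgroup.mem_inf.1 s.2).2.1]
    exact hno y.1 (by rw [Subgroup.orderOf_coe]; exact hy) h.hp.e_ne h.hp.ee (mem_lineStab.2 ⟨a, ha⟩)
  set C := Subgroup.centralizer ((R : Subgroup H) : Set H)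
  set N := Subgroup.normalizer ((R : Subgroup H) : Set H)
  have h3 : 3 ∣ Nat.card ↥(C ⊓ N) := by
    have hZ : 3 ∣ Nat.card (Subgroup.center (Su 3 F 11)) := by
      rw [Classical.card_center_SU hu.toIsInvol hu.pow hu.card_fix (by omega)]; norm_num
    obtain ⟨z, hz⟩ := exists_prime_orderOf_dvd_card' (G := Subgroup.center (Su 3 F 11)) 3 hZ
    let zH : H := ⟨z.1, hH.cen z.2⟩
    have hzc : ∀ g : H, g * zH = zH * g := fun g => Subtype.ext (Subgroup.mem_center_iff.1 z.2 g.1)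
    have hzC : zH ∈ C ⊓ N := by
      refine Subgroup.mem_inf.2 ⟨Subgroup.mem_centralizer_iff.2 fun g _ => hzc g, ?_⟩
      exact Subgroup.centralizer_le_normalizer _ (Subgroup.mem_centralizer_iff.2 fun g _ => hzc g)
    have := orderOf_dvd_natCard (⟨zH, hzC⟩ : ↥(C ⊓ N))
    rwa [Subgroup.orderOf_mk, Subgroup.orderOf_mk, Subgroup.orderOf_coe, hz] at this
  have hN : Nat.card N = 111 := by
    have h1 : Nat.card (Sylow 37 H) ∣ 2 ^ 3 * 3 ^ 3 * 5 * 11 := by
      have := Sylow.card_dvd_index R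
      rwa [hRidx] at this
    have h2 : Nat.card (Sylow 37 H) % 37 = 1 := card_sylow_modEq_one 37 H
    have h4 := N.index_mul_card
    rw [show N.index = Nat.card (Sylow 37 H) from (Sylow.card_eq_index_normalizer R).symm, hcard] at h4
    have h5 : 3 ∣ Nat.card N := h3.trans (Subgroup.card_dvd_of_le inf_le_right)
    rcases sylow_count h1 h2 hn with h6 | h6 <;> rw [h6] at h4 <;> omega
  have hC : N ≤ C := by
    have hcyc : IsCyclic (R : Subgroup H) := isCyclic_of_prime_card (p := 37) hR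
    have hRC : (R : Subgroup H) ≤ C ⊓ N := le_inf (fun r hr => Subgroup.mem_centralizer_iff.2 fun g hg => by
      let : CommGroup (R : Subgroup H) := IsCyclic.commGroup
      exact congrArg Subtype.val (mul_comm (⟨g, hg⟩ : (R : Subgroup H)) ⟨r, hr⟩)) Subgroup.le_normalizer
    have h37' : 37 ∣ Nat.card ↥(C ⊓ N) := by
      have := Subgroup.card_dvd_of_le hRC
      rwa [hR] at this
    have h111 : 111 ∣ Nat.card ↥(C ⊓ N) :=
      Nat.Coprime.mul_dvd_of_dvd_of_dvd (by norm_num : Nat.Coprime 3 37) h3 h37'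
    have hle : Nat.card N ≤ Nat.card ↥(C ⊓ N) := hN ▸ Nat.le_of_dvd Nat.card_pos h111
    exact (Subgroup.eq_of_le_of_card_ge (inf_le_right : C ⊓ N ≤ N) hle).ge.trans inf_le_left
  set K : Subgroup H := (MonoidHom.transferSylow R hC).ker with hKdef
  have hcompl := MonoidHom.ker_transferSylow_isComplement' R hC
  have hK : Nat.card K = 11880 := by
    have := hcompl.card_mul_card
    rw [show Nat.card (R : Subgroup H) = 37 from hR, hcard, ← hKdef] at this
    omega
  have hKi : K.index = 37 := by rw [hKdef, hcompl.symm.index_eq_card]; exact hR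
  have hKn : K.Normal := MonoidHom.normal_ker _
  -- all point stabilisers lie in the complement
  have hle : ∀ g : H, ∀ {v : Vn 3 F}, v ≠ 0 → hB 3 σ v v = 0 → g.1 ∈ lineStab v → g ∈ K := by
    intro g v hv0 hv hgv
    have h1 : orderOf g ∣ 330 := by
      rw [← hx, ← card_point_stab_eq hu h.hp.e_ne h.hp.ee hv0 hv hH, ← Subgroup.orderOf_coe]
      have := orderOf_dvd_natCard (⟨g.1, Subgroup.mem_inf.2 ⟨g.2, hgv⟩⟩ : ↥(H ⊓ lineStab v))
      rwa [Subgroup.orderOf_mk] at this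
    have h2 : orderOf (QuotientGroup.mk' K g) ∣ 37 := by
      have := orderOf_dvd_natCard (QuotientGroup.mk' K g)
      rwa [← Subgroup.index_eq_card, hKi] at this
    have h3 := Nat.eq_one_of_dvd_coprimes (by norm_num : Nat.Coprime 330 37) ((orderOf_map_dvd _ g).trans h1) h2
    exact (QuotientGroup.eq_one_iff g).1 (orderOf_eq_one_iff.1 h3)
  have horb : ∀ {v : Vn 3 F} (hv0 : v ≠ 0) (hv : hB 3 σ v v = 0),
      Nat.card (MulAction.orbit K (mkPt hu v hv0 hv)) = 36 := by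
    intro v hv0 hv
    have hst : Nat.card (MulAction.stabilizer K (mkPt hu v hv0 hv)) = 330 := by
      rw [← hx, ← card_point_stab_eq hu h.hp.e_ne h.hp.ee hv0 hv hH]
      have hmem : ∀ k : K, k ∈ MulAction.stabilizer K (mkPt hu v hv0 hv) → k.1.1 ∈ lineStab v := fun k hk => by
        rw [← stabilizer_mkPt hu hv0 hv]
        exact MulAction.mem_stabilizer_iff.2 (MulAction.mem_stabilizer_iff.1 hk)
      refine Nat.card_congr ⟨fun k => ⟨k.1.1.1, Subgroup.mem_inf.2 ⟨k.1.1.2, hmem _ k.2⟩⟩,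
        fun g => ⟨⟨⟨g.1, (Subgroup.mem_inf.1 g.2).1⟩, hle _ hv0 hv (Subgroup.mem_inf.1 g.2).2⟩, ?_⟩,
        fun _ => rfl, fun _ => rfl⟩
      rw [MulAction.mem_stabilizer_iff]
      show g.1 • mkPt hu v hv0 hv = mkPt hu v hv0 hv
      rw [← MulAction.mem_stabilizer_iff, stabilizer_mkPt hu hv0 hv]
      exact (Subgroup.mem_inf.1 g.2).2
    have h1 := (MulAction.stabilizer K (mkPt hu v hv0 hv)).index_mul_card
    rw [hst, MulAction.index_stabilizer, hK] at h1
    rw [Nat.card_coe_set_eq]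
    omega
  let P₀ := mkPt hu e h.hp.e_ne h.hp.ee
  obtain ⟨P, hP⟩ : ∃ P : Pts hu, P ∉ MulAction.orbit K P₀ := by
    by_contra hc
    push Not at hc
    have h1 := horb h.hp.e_ne h.hp.ee
    rw [Set.eq_univ_of_forall hc, Nat.card_coe_set_eq, Set.ncard_univ, card_pts hu] at h1
    norm_num at h1
  obtain ⟨v, hv0, hv, rfl⟩ := exists_mkPt hu P
  let sK : K := ⟨sH, hle sH h.hp.e_ne h.hp.ee (mem_lineStab.2 ⟨1, by
    rw [one_smul]; exact (Subgroup.mem_inf.1 s.2).2.1⟩)⟩
  have hPG : IsPGroup 11 (Subgroup.zpowers sK) := IsPGroup.of_card (n := 1) (by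
    rw [Nat.card_zpowers, pow_one]; exact (Subgroup.orderOf_mk sH _).trans hsH)
  obtain ⟨⟨Q, hQ⟩, hQfix⟩ := hPG.nonempty_fixed_point_of_prime_not_dvd_card
    (MulAction.orbit K (mkPt hu v hv0 hv)) (by rw [horb hv0 hv]; norm_num)
  obtain ⟨w, hw0, hw, rfl⟩ := exists_mkPt hu Q
  have hsw : s.1 • mkPt hu w hw0 hw = mkPt hu w hw0 hw :=
    congrArg Subtype.val (hQfix ⟨sK, Subgroup.mem_zpowers sK⟩)
  obtain ⟨a, ha⟩ := hfixe hw0 hw (by rw [← stabilizer_mkPt hu hw0 hw]; exact MulAction.mem_stabilizer_iff.2 hsw)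
  have : mkPt hu w hw0 hw = P₀ := (mkPt_eq_iff hu hw0 hw h.hp.e_ne h.hp.ee).2 ⟨a, ha.symm⟩
  rw [this] at hQ
  exact hP (MulAction.mem_orbit_symm.1 hQ)

/-- The case of a non-trivial unipotent part. -/
theorem no_unipotent (h5 : q ≠ 5) (hq : 3 ≤ q) {H : Subgroup (Su 3 F q)} (hH : Big σ H) {e m f : Vn 3 F}
    (h : Fr σ e m f) (hW : ∀ c : F, c + σ c = 0 → tr hu e c ∈ H → c = 0) {α₀ : F} (hα₀ : α₀ ∈ vGrp hu h H)
    (h0 : α₀ ≠ 0) : False := by
  classical
  obtain ⟨p, hp⟩ := CharP.exists F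
  obtain ⟨n, hpp, hn⟩ := FiniteField.card F p
  haveI : Fact p.Prime := ⟨hpp⟩
  rcases hpp.eq_two_or_odd' with rfl | hodd
  · have h1 := square_mem hu h H hα₀
    exact mul_ne_zero h0 ((map_ne_zero σ).2 h0) (hW _ h1.1 h1.2)
  have hFq : Fintype.card F = q ^ 2 := by
    rw [← Nat.card_eq_fintype_card, card_eq_fix_sq hu.toIsInvol, hu.card_fix]
  have hqodd : Odd q := by
    have : Odd (q ^ 2) := by rw [← hFq, hn]; exact hodd.pow
    exact Nat.Odd.of_mul_left (by rwa [pow_two] at this)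
  have h2 : (2 : F) ≠ 0 := by
    intro h2
    have h3 : ((2 : ℕ) : F) = 0 := by exact_mod_cast h2
    rw [CharP.cast_eq_zero_iff F p] at h3
    have := (Nat.prime_dvd_prime_iff_eq hpp Nat.prime_two).1 h3
    subst this
    exact absurd hodd (by decide)
  set V := Nat.card (vGrp hu h H) with hVdef
  set A := Nat.card (torA h H) with hAdef
  have hVq : V ∣ q := (vGrp_line hu h hW hα₀ h0).2
  have hA3 : A ∣ 3 * (q - 1) := torus_order hu h hW hα₀ h0
  have hAq : A ∣ q ^ 2 - 1 := by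
    have := (torA h H).card_subgroup_dvd_card
    rwa [Nat.card_units, card_F hu] at this
  have hbig : q ^ 2 - 1 ≤ V * A := by rw [← card_point_stab_free hu h hW]; exact hH.big e h.hp.e_ne h.hp.ee
  have hsq : q ^ 2 - 1 = (q + 1) * (q - 1) := by simpa using Nat.sq_sub_sq q 1
  have hAle : A ≤ 3 * (q - 1) := Nat.le_of_dvd (by omega) hA3
  have hVq' : V = q := by
    obtain ⟨k, hk⟩ := hVq
    have hkodd : Odd k := by rw [hk] at hqodd; exact Nat.Odd.of_mul_right hqodd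
    have h1 : (q + 1) * (q - 1) ≤ 3 * V * (q - 1) := by
      have := Nat.mul_le_mul_left V hAle
      rw [← hsq]; refine hbig.trans (this.trans (le_of_eq ?_)); ring
    have h2' := Nat.le_of_mul_le_mul_right h1 (by omega)
    obtain ⟨j, rfl⟩ := hkodd
    rcases j with _ | j
    · simpa using hk.symm
    · exfalso
      have : V * 3 ≤ q := hk ▸ Nat.mul_le_mul_left V (by omega)
      omega
  have hAlt : q - 1 < A := by
    by_contra hc
    push Not at hc
    rw [hVq', hsq] at hbig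
    have h1 := hbig.trans (Nat.mul_le_mul_left q hc)
    have h2' := Nat.le_of_mul_le_mul_right h1 (by omega)
    omega
  have h3A : 3 ∣ A := by
    by_contra h3
    have : A ∣ q - 1 :=
      ((Nat.Prime.coprime_iff_not_dvd Nat.prime_three).2 h3).symm.dvd_of_dvd_mul_left hA3
    have := Nat.le_of_dvd (by omega) this
    omega
  have h3q : 3 ∣ q + 1 := by
    by_contra h3
    have h4 : ¬ 3 ∣ A / 1 ∨ True := Or.inr trivial
    have hA' : A ∣ (q - 1) * Nat.gcd 3 (q + 1) := by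
      rw [← Nat.gcd_mul_left, mul_comm (q - 1) (q + 1), ← hsq, mul_comm]
      exact Nat.dvd_gcd hA3 hAq
    rw [(Nat.Prime.coprime_iff_not_dvd Nat.prime_three).2 h3, mul_one] at hA'
    have := Nat.le_of_dvd (by omega) hA'
    omega
  have hevH : 2 ∣ Nat.card H := by
    rw [Big.card hu H hH h.hp.e_ne h.hp.ee]
    exact dvd_mul_of_dvd_left (even_iff_two_dvd.1 (hqodd.pow.add_one)) _
  have hneg := neg_one_torA hu p hodd h2 hH h hevH
  obtain ⟨m', f', t, h', htH, ht⟩ := exists_reflection hu p hodd h hneg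
  have hAeq : torA h H = torA h' H := by
    ext a; rw [mem_torA hu h H, mem_torA hu h' H]
  have hA : ∀ a : Fˣ, a ∈ torA h H ↔ ∃ g ∈ H, g ∈ lineStab m' ∧ mat g *ᵥ e = (a : F) • e := fun a => by
    rw [mem_torA hu h H]
    constructor
    · rintro ⟨g, hg, hge⟩
      exact reflection_centraliser hu p hodd h2 hH h' htH ht h'.hp.e_ne h'.hp.ee (h'.hm.a_e hu) hg hge
    · rintro ⟨g, hg, -, hge⟩; exact ⟨g, hg, hge⟩
  have htr : ∀ v : Vn 3 F, v ≠ 0 → hB 3 σ v v = 0 → hB 3 σ m' v = 0 →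
      ∃ g ∈ H, g ∈ lineStab m' ∧ ∃ a : F, mat g *ᵥ e = a • v := fun v hv0 hv hmv => by
    obtain ⟨g, hg, a, hga⟩ := hH.trans e v h.hp.e_ne h.hp.ee hv0 hv
    obtain ⟨k, hk, hkm, hke⟩ := reflection_centraliser hu p hodd h2 hH h' htH ht hv0 hv hmv hg hga
    exact ⟨k, hk, hkm, a, hke⟩
  -- the kernel has order six
  set B := torA h H ⊓ (normHom σ).ker with hB'
  have hB6 : Nat.card B = 6 := by
    have hN : Nat.card (normHom σ).ker = q + 1 := by rw [card_ker_normHom hu.toIsInvol, hu.card_fix]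
    have h1 : Nat.card B ∣ 3 * (q - 1) := (Subgroup.card_dvd_of_le inf_le_left).trans hA3
    have h1' : Nat.card B ∣ q + 1 := (Subgroup.card_dvd_of_le inf_le_right).trans (dvd_of_eq hN)
    have h6 : Nat.card B ∣ 6 := by
      have h3 : Nat.card B ∣ 3 * (q + 1) := dvd_mul_of_dvd_right h1' 3
      have := Nat.dvd_sub h3 h1
      rwa [show 3 * (q + 1) - 3 * (q - 1) = 6 by omega] at this
    refine Nat.dvd_antisymm h6 (Nat.Coprime.mul_dvd_of_dvd_of_dvd (by norm_num : Nat.Coprime 2 3) ?_ ?_)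
    · have hm : (-1 : Fˣ) ∈ B := Subgroup.mem_inf.2 ⟨hneg, MonoidHom.mem_ker.2 (Units.ext (by
        rw [normHom_coe]; simp))⟩
      have := orderOf_dvd_natCard (⟨-1, hm⟩ : B)
      rwa [Subgroup.orderOf_mk, orderOf_eq_prime (p := 2) (by simp) (fun h1 => h2 (by
        have := congrArg Units.val h1
        simp at this
        linear_combination -this))] at this
    · haveI : Fact (Nat.Prime 3) := ⟨Nat.prime_three⟩
      obtain ⟨a, ha⟩ := exists_prime_orderOf_dvd_card' (G := torA h H) 3 h3A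
      have hmem : a.1 ∈ B := Subgroup.mem_inf.2 ⟨a.2, MonoidHom.mem_ker.2 (Units.ext (by
        rw [normHom_coe, hu.pow, ← pow_succ', Units.val_one]
        obtain ⟨j, hj⟩ := h3q
        rw [hj, pow_mul]
        have h3 : a ^ 3 = 1 := (orderOf_eq_prime_iff.1 ha).1
        have h4 := congrArg (fun x : torA h H => ((x.1 : Fˣ) : F)) h3
        simp only [SubgroupClass.coe_pow, Units.val_pow_eq_pow_val, Subgroup.coe_one, Units.val_one] at h4
        rw [h4, one_pow]))⟩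
      have := orderOf_dvd_natCard (⟨a.1, hmem⟩ : B)
      rwa [Subgroup.orderOf_mk, Subgroup.orderOf_coe, ha] at this
  obtain ⟨c, hc⟩ : 6 ∣ A := hB6 ▸ Subgroup.card_dvd_of_le inf_le_left
  rw [mul_comm] at hc
  have hA6 : 2 * c ∣ q - 1 := by
    rw [hc] at hA3
    rw [show c * 6 = 3 * (2 * c) by ring] at hA3
    exact (Nat.mul_dvd_mul_iff_left (show 0 < 3 by norm_num)).1 hA3
  have hc3 : 3 ≤ c := by
    by_contra hc3
    have h1 := Nat.odd_iff.1 hqodd
    rcases (show c = 1 ∨ c = 2 by omega) with rfl | rfl <;> omega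
  rcases chord_cases hu h' H hW htr (torA h H) hA c (by rw [hB6, ← hc]) hc3 with
    ⟨rfl, h1⟩ | ⟨rfl, h1⟩ | ⟨rfl, h1⟩
  · omega
  · omega
  · exact no_eleven hu (by omega) hH h (by rw [← hVdef]; omega) hW (by rw [← hAdef]; omega)

/-- Three is impossible. -/
theorem no_three (hq : q = 3) {H : Subgroup (Su 3 F q)} (hH : Big σ H) {e m f : Vn 3 F} (h : Fr σ e m f)
    {t : Su 3 F q} (htH : t ∈ H) (ht : IsT σ e m f t (-1 : F)) (hx : Nat.card ↥(H ⊓ lineStab e) = 8)
    (hone : ∀ u ∈ H, u * u = 1 → u ≠ 1 → ∀ v : Vn 3 F, ∀ a : F, mat u *ᵥ v = a • v → v ≠ 0 → hB 3 σ v v = 0 →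
      ∃ g ∈ H, g⁻¹ * u * g = t) : False := by
  classical
  subst hq
  haveI : Fact (Nat.Prime 7) := ⟨by norm_num⟩
  haveI : Fact (Nat.Prime 2) := ⟨Nat.prime_two⟩
  have h2 : (2 : F) ≠ 0 := by
    intro h2
    have h3 := q_cast hu
    push_cast at h3
    exact one_ne_zero (α := F) (by linear_combination h3 - h2)
  have hcard : Nat.card H = 224 := by rw [Big.card hu H hH h.hp.e_ne h.hp.ee, hx]; norm_num
  -- no element of order seven commutes with the reflection
  have hno : ∀ y ∈ H, orderOf y = 7 → ¬ Commute t y := by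
    intro y hyH hy hty
    obtain ⟨t1, t2, t3⟩ := ht
    rw [map_neg, map_one, neg_div_neg_eq, div_one, one_smul] at t2
    rw [map_neg, map_one, inv_neg, inv_one] at t3
    obtain ⟨q1, q2, q3, q4, q5, q6, q7, q8, q9⟩ := h.relations hu
    have hfix : mat t *ᵥ (mat y *ᵥ m) = mat y *ᵥ m := by rw [← mat_mul_mulVec, hty.eq, mat_mul_mulVec, t2]
    have hym : y ∈ lineStab m := by
      set w := mat y *ᵥ m with hw
      have he : hB 3 σ e w = 0 := by
        have h0 := hB_mat hu t e w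
        rw [hfix, t1, map_smulₛₗ, LinearMap.smul_apply, smul_eq_mul, map_neg, map_one] at h0
        exact (mul_eq_zero.1 (show (2 : F) * hB 3 σ e w = 0 by linear_combination -h0)).resolve_left h2
      have hf : hB 3 σ f w = 0 := by
        have h0 := hB_mat hu t f w
        rw [hfix, t3, map_smulₛₗ, LinearMap.smul_apply, smul_eq_mul, map_neg, map_one] at h0
        exact (mul_eq_zero.1 (show (2 : F) * hB 3 σ f w = 0 by linear_combination -h0)).resolve_left h2
      refine mem_lineStab.2 ⟨hB 3 σ m w, ?_⟩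
      rw [← hw]
      conv_lhs => rw [h.repr hu w, he, hf]
      simp
    let g : ℕ → {P : Plane σ m // hB 3 σ P.1.rep P.1.rep = 0} := fun i =>
      ⟨mkPlane m (mat (y ^ i) *ᵥ e) (mat_mulVec_ne_zero _ h.hp.e_ne)
        (plane_invariant hu h.m_ne (Subgroup.pow_mem _ hym i) q7), by
        obtain ⟨s, hs⟩ := Projectivization.exists_smul_eq_mk_rep F _ (mat_mulVec_ne_zero (y ^ i) h.hp.e_ne)
        show hB 3 σ (Projectivization.mk F _ _).rep (Projectivization.mk F _ _).rep = 0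
        rw [← hs, Units.smul_def, smul_self (hu.isHerm 3), hB_mat hu, q1, mul_zero]⟩
    haveI := finite_plane (σ := σ) m
    have hlt : Nat.card {P : Plane σ m // hB 3 σ P.1.rep P.1.rep = 0} < Nat.card (Fin 5) := by
      rw [card_chord hu h, Nat.card_fin]; omega
    obtain ⟨i, j, hij, hgij⟩ : ∃ i j : Fin 5, i.1 < j.1 ∧ g i = g j := by
      by_contra hc
      push Not at hc
      refine absurd hlt (not_lt.2 (Nat.card_le_card_of_injective (fun i : Fin 5 => g i) fun i j hij => ?_))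
      rcases lt_trichotomy i.1 j.1 with hl | hl | hl
      · exact absurd hij (hc i j hl)
      · exact Fin.ext hl
      · exact absurd hij.symm (hc j i hl)
    obtain ⟨a, ha⟩ := (Projectivization.mk_eq_mk_iff' F _ _ _ _).1 (congrArg Subtype.val (congrArg Subtype.val hgij))
    have hk : y ^ (j.1 - i.1) ∈ lineStab e := by
      have ha0 : a ≠ 0 := fun h0 => mat_mulVec_ne_zero (y ^ i.1) h.hp.e_ne (by rw [← ha, h0, zero_smul])
      refine mem_lineStab.2 ⟨a⁻¹, ?_⟩
      have h1 := congrArg (mat (y ^ i.1)⁻¹ *ᵥ ·) ha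
      simp only [Matrix.mulVec_smul, mat_inv_mulVec] at h1
      rw [← mat_mul_mulVec, show (y ^ i.1)⁻¹ * y ^ j.1 = y ^ (j.1 - i.1) by
        rw [inv_mul_eq_iff_eq_mul, ← pow_add, Nat.add_sub_cancel' hij.le]] at h1
      conv_rhs => arg 2; rw [← h1]
      rw [inv_smul_smul₀ ha0]
    have h7 : orderOf (y ^ (j.1 - i.1)) = 7 := by
      rw [orderOf_pow, hy, Nat.Coprime.gcd_eq_one, Nat.div_one]
      refine (Nat.Prime.coprime_iff_not_dvd (by norm_num)).2 ?_
      have := j.2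
      intro hd
      have := Nat.le_of_dvd (by omega) hd
      omega
    have := orderOf_dvd_natCard (⟨_, Subgroup.mem_inf.2 ⟨H.pow_mem hyH _, hk⟩⟩ : ↥(H ⊓ lineStab e))
    rw [Subgroup.orderOf_mk, h7, hx] at this
    norm_num at this
  let R : Sylow 7 H := default
  have hR : Nat.card R = 7 := by
    obtain ⟨k, hk⟩ := R.isPGroup'.exists_card_eq
    have h1 : 7 ^ k ∣ 224 := hcard ▸ hk ▸ (R : Subgroup H).card_subgroup_dvd_card
    have h2' : 7 ∣ Nat.card R := R.dvd_card_of_dvd_card (by rw [hcard]; norm_num)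
    have hk1 : k ≤ 1 := by
      by_contra hk1
      have := (pow_dvd_pow 7 (show 2 ≤ k by omega)).trans h1
      norm_num at this
    interval_cases k
    · rw [hk] at h2'; norm_num at h2'
    · rw [hk, pow_one]
  set N := Subgroup.normalizer ((R : Subgroup H) : Set H) with hN
  have hNcard : 4 ∣ Nat.card N := by
    have h1 := N.index_mul_card
    rw [show N.index = Nat.card (Sylow 7 H) from (Sylow.card_eq_index_normalizer R).symm, hcard] at h1
    have h2' : Nat.card (Sylow 7 H) % 7 = 1 := card_sylow_modEq_one 7 H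
    have h3 : Nat.card (Sylow 7 H) ∣ 2 ^ 5 := by
      have h4 := Sylow.card_dvd_index R
      have h5 := (R : Subgroup H).index_mul_card
      rw [hR, hcard] at h5
      rwa [show (R : Subgroup H).index = 2 ^ 5 by omega] at h4
    obtain ⟨i, hi, hi'⟩ := (Nat.dvd_prime_pow Nat.prime_two).1 h3
    rw [hi'] at h1 h2'
    interval_cases i <;> omega
  haveI : IsCyclic (R : Subgroup H) := isCyclic_of_prime_card (p := 7) hR
  let ψ := Subgroup.normalizerMonoidHom (R : Subgroup H)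
  have hker : 2 ∣ Nat.card ψ.ker := by
    have h1 := ψ.ker.index_mul_card
    rw [Subgroup.index_ker] at h1
    have h3 : Nat.card ψ.range ∣ 6 := by
      have := Subgroup.card_subgroup_dvd_card ψ.range
      rwa [IsCyclic.card_mulAut, show Nat.card (R : Subgroup H) = 7 from hR,
        Nat.totient_prime (by norm_num)] at this
    have h4 : 4 ∣ Nat.card ψ.range * Nat.card ψ.ker := h1 ▸ hNcard
    rcases (Nat.Prime.dvd_mul Nat.prime_two).1 (dvd_trans (by norm_num : 2 ∣ 4) h4) with h5 | h5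
    · obtain ⟨k, hk⟩ := h5
      have hk3 : k ∣ 3 := (Nat.mul_dvd_mul_iff_left (by norm_num : 0 < 2)).1 (by rw [← hk]; exact h3)
      have h6 : 2 ∣ k * Nat.card ψ.ker := (Nat.mul_dvd_mul_iff_left (by norm_num : 0 < 2)).1
        (by rw [← mul_assoc, ← hk]; exact h4)
      exact (Nat.Coprime.coprime_dvd_right hk3 (by norm_num : Nat.Coprime 2 3)).dvd_of_dvd_mul_left h6
    · exact h5
  obtain ⟨z, hz⟩ := exists_prime_orderOf_dvd_card' (G := ψ.ker) 2 hker
  obtain ⟨y, hy⟩ := exists_prime_orderOf_dvd_card' (G := (R : Subgroup H)) 7 (by rw [hR])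
  have hzy : z.1.1.1 * y.1.1 * z.1.1.1⁻¹ = y.1.1 := by
    have := congrArg (fun x : (R : Subgroup H) => x.1.1) (DFunLike.congr_fun (MonoidHom.mem_ker.1 z.2) y)
    exact this
  set u := z.1.1.1 with hu'
  have huH : u ∈ H := z.1.1.2
  have huu : u * u = 1 := by
    have := congrArg (fun x : ψ.ker => x.1.1.1) (orderOf_eq_prime_iff.1 hz).1
    simpa [pow_two] using this
  have hu1 : u ≠ 1 := fun h0 => (orderOf_eq_prime_iff.1 hz).2 (Subtype.ext (Subtype.ext (Subtype.ext h0)))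
  obtain ⟨v, hv0, hv, a, ha⟩ := invol_fix hu h2 huu
  obtain ⟨g, hg, hgt⟩ := hone u huH huu hu1 v a ha hv0 hv
  refine hno (g⁻¹ * y.1.1 * g) (H.mul_mem (H.mul_mem (H.inv_mem hg) y.1.2) hg) ?_ ?_
  · have : orderOf y.1.1 = 7 := by rw [Subgroup.orderOf_coe, Subgroup.orderOf_coe]; exact hy
    refine Eq.trans ?_ this
    refine Eq.trans ?_ (orderOf_injective (MulAut.conj g⁻¹).toMonoidHom (MulAut.conj g⁻¹).injective y.1.1)
    congr 1
    simp
  · rw [← hgt]
    show _ * _ = _ * _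
    have hc : u * y.1.1 = y.1.1 * u := mul_inv_eq_iff_eq_mul.1 hzy
    simp only [mul_assoc, mul_inv_cancel_left]
    rw [← mul_assoc u, hc, mul_assoc]

/-- The case of a trivial unipotent part. -/
theorem no_regular (h5 : q ≠ 5) (hq : 3 ≤ q) {H : Subgroup (Su 3 F q)} (hH : Big σ H) {e m f : Vn 3 F}
    (h : Fr σ e m f) (hW : ∀ c : F, c + σ c = 0 → tr hu e c ∈ H → c = 0)
    (hV : ∀ α ∈ vGrp hu h H, α = 0) : False := by
  classical
  have hV1 : Nat.card (vGrp hu h H) = 1 := Nat.card_eq_one_iff_unique.2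
    ⟨⟨fun a b => Subtype.ext (by rw [hV _ a.2, hV _ b.2])⟩, ⟨⟨0, (vGrp hu h H).zero_mem⟩⟩⟩
  have hbig := hH.big e h.hp.e_ne h.hp.ee
  rw [card_point_stab_free hu h hW, hV1, one_mul] at hbig
  have hAtop : torA h H = ⊤ := Subgroup.eq_top_of_le_card _ (by rw [Nat.card_units, card_F hu]; exact hbig)
  have hH1 : ∀ x ∈ H, mat x *ᵥ e = e → x = 1 := fun x hx hxe => by
    have hc : Nat.card ↥(H ⊓ flagFix (q := q) σ e) = 1 := by rw [card_unip hu h H, hV1, wGrp_bot hu h hW]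
    have := (Nat.card_eq_one_iff_unique.1 hc).1.elim
      ⟨x, Subgroup.mem_inf.2 ⟨hx, (h.mem_flag_iff hu).2 hxe⟩⟩ 1
    exact congrArg Subtype.val this
  obtain ⟨a, ha⟩ := IsCyclic.exists_generator (α := Fˣ)
  have hord : orderOf a = q ^ 2 - 1 := by
    rw [orderOf_eq_card_of_forall_mem_zpowers ha, Nat.card_units, card_F hu]
  have hqq : 3 * q ≤ q ^ 2 := by nlinarith
  have hnot : ∀ k : ℕ, 0 < k → k < q ^ 2 - 1 → (a : F) ^ k ≠ 1 := fun k hk hk' h1 => by
    have := orderOf_dvd_of_pow_eq_one (show a ^ k = 1 from Units.ext (by simpa using h1))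
    have := Nat.le_of_dvd hk this
    omega
  obtain ⟨g, hgH, hge⟩ := (mem_torA hu h H).1 (hAtop ▸ Subgroup.mem_top a)
  obtain ⟨-, s, hs, k, hk, hgk⟩ := h.decomp hu hge
  have ha0 : (a : F) ≠ 0 := a.ne_zero
  have hconjflag : ∀ u ∈ flagFix (q := q) σ e, k * u * k⁻¹ ∈ flagFix σ e := fun u hu' => by
    obtain ⟨hadm, he⟩ := h.flag_coord hu hu'
    obtain ⟨hadm', he'⟩ := h.uE_conj hu ha0 hk hadm
    rw [← he] at he'
    rw [he']
    exact h.uE_mem hu hadm'
  let φ : flagFix (q := q) σ e → flagFix (q := q) σ e := fun u =>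
    ⟨u.1 * (k * u.1⁻¹ * k⁻¹), mul_mem u.2 (hconjflag _ (inv_mem u.2))⟩
  have hφ : Function.Injective φ := by
    intro u₁ u₂ h12
    have h1 : u₁.1 * (k * u₁.1⁻¹ * k⁻¹) = u₂.1 * (k * u₂.1⁻¹ * k⁻¹) := congrArg Subtype.val h12
    have h2 : k * (u₂.1⁻¹ * u₁.1) * k⁻¹ = u₂.1⁻¹ * u₁.1 := by
      calc k * (u₂.1⁻¹ * u₁.1) * k⁻¹ = k * u₂.1⁻¹ * k⁻¹ * (k * u₁.1⁻¹ * k⁻¹)⁻¹ := by group
        _ = u₂.1⁻¹ * (u₂.1 * (k * u₂.1⁻¹ * k⁻¹)) * (k * u₁.1⁻¹ * k⁻¹)⁻¹ := by group
        _ = u₂.1⁻¹ * (u₁.1 * (k * u₁.1⁻¹ * k⁻¹)) * (k * u₁.1⁻¹ * k⁻¹)⁻¹ := by rw [h1]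
        _ = _ := by group
    have hy : u₂.1⁻¹ * u₁.1 ∈ flagFix σ e := mul_mem (inv_mem u₂.2) u₁.2
    obtain ⟨hadm, he⟩ := h.flag_coord hu hy
    set α := hB 3 σ m (mat (u₂.1⁻¹ * u₁.1) *ᵥ f)
    set d := hB 3 σ f (mat (u₂.1⁻¹ * u₁.1) *ᵥ f)
    rw [he] at h2
    obtain ⟨hadm', he'⟩ := h.uE_conj hu ha0 hk hadm
    obtain ⟨e1, e2⟩ := h.uE_inj hu hadm' hadm (he'.symm.trans h2)
    have hα : α = 0 := by
      by_contra hα
      have h3 : σ (a : F) * σ a / a = 1 := mul_right_cancel₀ hα (e1.trans (one_mul α).symm)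
      rw [div_eq_one_iff_eq ha0] at h3
      have h4 := congrArg σ h3
      rw [map_mul, hu.invol] at h4
      refine hnot 3 (by norm_num) (by omega) (mul_left_cancel₀ ha0 ?_)
      rw [mul_one]
      calc (a : F) * (a : F) ^ 3 = (a : F) * a * ((a : F) * a) := by ring
        _ = σ (a : F) * σ a := by rw [h4]
        _ = _ := h3
    have hd : d = 0 := by
      by_contra hd
      have h3 : (a : F) * σ a = 1 := mul_right_cancel₀ hd (e2.trans (one_mul d).symm)
      rw [hu.pow, ← pow_succ'] at h3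
      exact hnot (q + 1) (by omega) (by omega) h3
    rw [hα, hd, h.uE_zero hu] at he
    exact Subtype.ext (inv_mul_eq_one.1 he).symm
  obtain ⟨u, hu'⟩ := Finite.injective_iff_surjective.1 hφ ⟨s, hs⟩
  have hsu : u.1 * (k * u.1⁻¹ * k⁻¹) = s := congrArg Subtype.val hu'
  have hgu : g = u.1 * k * u.1⁻¹ := by rw [hgk, ← hsu]; group
  set m' := mat u.1 *ᵥ m
  set f' := mat u.1 *ᵥ f
  have h' : Fr σ e m' f' := by have := h.conj hu u.1; rwa [u.2.1] at this
  have hgT : IsT σ e m' f' g (a : F) := by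
    have := hk.conj hu u.1
    rwa [u.2.1, ← hgu] at this
  have hpow : ∀ i : ℕ, IsT σ e m' f' (g ^ i) ((a : F) ^ i) := fun i => by
    induction i with
    | zero => exact ⟨by simp [mat_one_mulVec], by simp [mat_one_mulVec], by simp [mat_one_mulVec]⟩
    | succ i ih => rw [pow_succ g, pow_succ]; exact ih.mul hu hgT
  have hall : ∀ x ∈ H, ∀ b : Fˣ, mat x *ᵥ e = (b : F) • e → IsT σ e m' f' x (b : F) := fun x hx b hxb => by
    obtain ⟨i, hi⟩ := (IsOfFinOrder.mem_powers_iff_mem_zpowers (isOfFinOrder_of_finite a)).2 (ha b)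
    have hi' : a ^ i = b := hi
    have hx1 : (g ^ i)⁻¹ * x = 1 := hH1 _ (H.mul_mem (H.inv_mem (H.pow_mem hgH i)) hx) (by
      rw [mat_mul_mulVec, hxb, ← hi', Units.val_pow_eq_pow_val, ← (hpow i).1, mat_inv_mulVec])
    rw [← inv_mul_eq_one.1 hx1, ← hi', Units.val_pow_eq_pow_val]
    exact hpow i
  have hA : ∀ b : Fˣ, b ∈ (⊤ : Subgroup Fˣ) ↔ ∃ x ∈ H, x ∈ lineStab m' ∧ mat x *ᵥ e = (b : F) • e := fun b => by
    refine ⟨fun _ => ?_, fun _ => Subgroup.mem_top b⟩
    obtain ⟨x, hx, hxb⟩ := (mem_torA hu h H).1 (hAtop ▸ Subgroup.mem_top b)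
    exact ⟨x, hx, mem_lineStab.2 ⟨_, (hall x hx b hxb).2.1⟩, hxb⟩
  -- transitivity on the chord
  set b0 : F := (a : F) ^ (q - 1) with hb0
  set t0 := g ^ (q - 1) with ht0
  have hb1 : b0 ≠ 0 := pow_ne_zero _ ha0
  have hNb : b0 * σ b0 = 1 := by
    rw [hu.pow, ← pow_succ', hb0, ← pow_mul, show (q - 1) * (q + 1) = q ^ 2 - 1 by
      rw [mul_comm]; simpa using (Nat.sq_sub_sq q 1).symm, ← hord]
    rw [← Units.val_pow_eq_pow_val, pow_orderOf_eq_one, Units.val_one]
  have hsb : σ b0 = b0⁻¹ := eq_inv_of_mul_eq_one_right hNb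
  obtain ⟨q1, q2, q3, q4, q5, q6, q7, q8, q9⟩ := h'.relations hu
  have hb3 : σ b0 / b0 ≠ b0 := by
    intro hc
    rw [hsb, div_eq_iff hb1, inv_eq_iff_eq_inv] at hc
    have h3 : b0 ^ 3 = 1 := by
      have h4 : b0 * (b0 * b0) = 1 := by
        nth_rewrite 1 [hc]
        exact inv_mul_cancel₀ (mul_ne_zero hb1 hb1)
      rw [← h4]; ring
    rw [hb0, ← pow_mul] at h3
    refine hnot _ (Nat.mul_pos (by omega) (by omega)) ?_ h3
    omega
  have htr : ∀ v : Vn 3 F, v ≠ 0 → hB 3 σ v v = 0 → hB 3 σ m' v = 0 →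
      ∃ x ∈ H, x ∈ lineStab m' ∧ ∃ c : F, mat x *ᵥ e = c • v := fun v hv0 hv hmv => by
    obtain ⟨x, hx, c, hxc⟩ := hH.trans e v h.hp.e_ne h.hp.ee hv0 hv
    have hc : c ≠ 0 := smul_ne_zero_of_eq hu h.hp.e_ne hxc
    obtain ⟨t1, t2, t3⟩ := hpow (q - 1)
    rw [← ht0, ← hb0] at t1 t2 t3
    rw [hsb, inv_inv] at t3
    have htv : mat t0 *ᵥ v = b0 • v := by
      conv_lhs => rw [h'.repr hu v, hmv, zero_smul, add_zero]
      conv_rhs => rw [h'.repr hu v, hmv, zero_smul, add_zero]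
      rw [Matrix.mulVec_add, Matrix.mulVec_smul, Matrix.mulVec_smul, t1, t3]
      module
    have h1 : t0⁻¹ * (x⁻¹ * t0 * x) = 1 := hH1 _
      (H.mul_mem (H.inv_mem (H.pow_mem hgH _)) (H.mul_mem (H.mul_mem (H.inv_mem hx) (H.pow_mem hgH _)) hx)) (by
      have hxe : mat (x⁻¹ * t0 * x) *ᵥ e = b0 • e := by
        rw [mat_mul_mulVec, mat_mul_mulVec, hxc, Matrix.mulVec_smul, htv, smul_comm, Matrix.mulVec_smul, ← hxc,
          mat_inv_mulVec]
      rw [mat_mul_mulVec, hxe, ← t1, mat_inv_mulVec])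
    have hcomm : t0 * x = x * t0 := by
      rw [inv_mul_eq_one] at h1
      conv_rhs => rw [h1]
      group
    refine ⟨x, hx, ?_, c, hxc⟩
    set w := mat x *ᵥ m' with hw
    have hfix : mat t0 *ᵥ w = (σ b0 / b0) • w := by
      rw [hw, ← mat_mul_mulVec, hcomm, mat_mul_mulVec, t2, Matrix.mulVec_smul]
    have key : ∀ y : Vn 3 F, mat t0 *ᵥ y = b0 • y → hB 3 σ y w = 0 := fun y hy => by
      have h0 := hB_mat hu t0 y w
      simp only [hfix, hy, map_smulₛₗ, LinearMap.smul_apply, RingHom.id_apply, smul_eq_mul] at h0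
      have h4 : (σ b0 * (σ b0 / b0) - 1) * hB 3 σ y w = 0 := by linear_combination h0
      refine (mul_eq_zero.1 h4).resolve_left fun h5 => hb3 ?_
      calc σ b0 / b0 = (b0 * σ b0) * (σ b0 / b0) := by rw [hNb, one_mul]
        _ = b0 * (σ b0 * (σ b0 / b0)) := by ring
        _ = b0 := by rw [sub_eq_zero.1 h5, mul_one]
    refine mem_lineStab.2 ⟨hB 3 σ m' w, ?_⟩
    rw [← hw]
    conv_lhs => rw [h'.repr hu w, key e t1, key f' t3]
    simp
  have hker : Nat.card ↥((⊤ : Subgroup Fˣ) ⊓ (normHom σ).ker) = q + 1 := by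
    rw [top_inf_eq, card_ker_normHom hu.toIsInvol, hu.card_fix]
  have hsq : q ^ 2 - 1 = (q + 1) * (q - 1) := by simpa using Nat.sq_sub_sq q 1
  by_cases hq3 : q = 3
  · have hx8 : Nat.card ↥(H ⊓ lineStab e) = 8 := by
      rw [card_point_stab_free hu h hW, hV1, one_mul, hAtop, Subgroup.card_top, Nat.card_units, card_F hu, hq3]
      norm_num
    have hqc : ((3 : ℕ) : F) = 0 := hq3 ▸ q_cast hu
    have h2 : (2 : F) ≠ 0 := fun h2 => one_ne_zero (α := F) (by push_cast at hqc; linear_combination hqc - h2)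
    obtain ⟨t, htH, hte⟩ := (mem_torA hu h H).1 (hAtop ▸ Subgroup.mem_top (-1 : Fˣ))
    have htT : IsT σ e m' f' t (-1 : F) := by simpa using hall t htH (-1) hte
    refine no_three hu hq3 hH h' htH htT hx8 fun x hx hxx hx1 v c hxv hv0 hv => ?_
    obtain ⟨y, hy, d, hyd⟩ := hH.trans e v h.hp.e_ne h.hp.ee hv0 hv
    refine ⟨y, hy, ?_⟩
    have hye : mat (y⁻¹ * x * y) *ᵥ e = c • e := by
      rw [mat_mul_mulVec, mat_mul_mulVec, hyd, Matrix.mulVec_smul, hxv, smul_comm, Matrix.mulVec_smul, ← hyd,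
        mat_inv_mulVec]
    have h00 : (y⁻¹ * x * y) * (y⁻¹ * x * y) = 1 := by
      simp only [mul_assoc, mul_inv_cancel_left]; rw [← mul_assoc x, hxx, one_mul, inv_mul_cancel]
    have hyH : y⁻¹ * x * y ∈ H := H.mul_mem (H.mul_mem (H.inv_mem hy) hx) hy
    have hc2 : c * c = 1 := by
      refine smul_left_injective F h.hp.e_ne (show (c * c) • e = (1 : F) • e from ?_)
      rw [one_smul]
      conv_rhs => rw [← mat_one_mulVec (q := q) e, ← h00, mat_mul_mulVec, hye, Matrix.mulVec_smul, hye, smul_smul]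
    rcases mul_self_eq_one_iff.1 hc2 with h1 | h1
    · exfalso
      rw [h1, one_smul] at hye
      have := hH1 _ hyH hye
      refine hx1 ?_
      have h4 : x = y * (y⁻¹ * x * y) * y⁻¹ := by group
      rw [h4, this, mul_one, mul_inv_cancel]
    · rw [h1] at hye
      exact h'.isT_unique hu (by simpa using hall _ hyH (-1) (by simpa using hye)) htT
  · have hc : Nat.card (⊤ : Subgroup Fˣ) = (q - 1) * Nat.card ↥((⊤ : Subgroup Fˣ) ⊓ (normHom σ).ker) := by
      rw [hker, Subgroup.card_top, Nat.card_units, card_F hu, hsq, mul_comm]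
    rcases chord_cases hu h' H hW htr ⊤ hA (q - 1) hc (by omega) with ⟨h1, h2⟩ | ⟨h1, h2⟩ | ⟨h1, h2⟩ <;> omega

/-- No large transitive subgroup without transvections. -/
theorem no_free (h5 : q ≠ 5) (hq : 3 ≤ q) {H : Subgroup (Su 3 F q)} (hH : Big σ H) {e m f : Vn 3 F}
    (h : Fr σ e m f) (hW : ∀ c : F, c + σ c = 0 → tr hu e c ∈ H → c = 0) : False := by
  by_cases hV : ∀ α ∈ vGrp hu h H, α = 0
  · exact no_regular hu h5 hq hH h hW hV
  · push Not at hV
    obtain ⟨α, hα, h0⟩ := hV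
    exact no_unipotent hu h5 hq hH h hW hα h0

end Cfsg.Agent.MinIndexPSU3
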