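import Cfsg.Agent.MinIndexPSU3.Local
import Cfsg.Agent.Classical.TwoTrans
import Cfsg.Agent.Classical.UnitaryGroup

/-!
In odd characteristic a transitive subgroup containing a transvection is everything.
-/

set_option autoImplicit false

namespace Cfsg.Agent.MinIndexPSU3

open AutPSU Matrix Classical.Herm
open Cfsg.Agent.RootSub.Dickson
open scoped MatrixGroups

theorem neg_one_of_involution {K : Type*} [Field K] (h2 : (2 : K) ≠ 0) {g : SL(2, K)} (hg : g * g = 1)
    (hne : g ≠ 1) : g = -1 := by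
  set a := (g : Matrix (Fin 2) (Fin 2) K) 0 0 with ha
  set b := (g : Matrix (Fin 2) (Fin 2) K) 0 1 with hb
  set c := (g : Matrix (Fin 2) (Fin 2) K) 1 0 with hc
  set d := (g : Matrix (Fin 2) (Fin 2) K) 1 1 with hd
  have hdet : a * d - b * c = 1 := by rw [ha, hb, hc, hd, ← Matrix.det_fin_two]; exact g.2
  have hm : (g : Matrix (Fin 2) (Fin 2) K) * (g : Matrix (Fin 2) (Fin 2) K) = 1 := by
    rw [← Matrix.SpecialLinearGroup.coe_mul, hg, Matrix.SpecialLinearGroup.coe_one]
  have e00 := congrFun (congrFun hm 0) 0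
  have e01 := congrFun (congrFun hm 0) 1
  have e10 := congrFun (congrFun hm 1) 0
  have e11 := congrFun (congrFun hm 1) 1
  simp only [Matrix.mul_apply, Fin.sum_univ_two, Matrix.one_apply, ← ha, ← hb, ← hc, ← hd, Fin.isValue, zero_ne_one,
    one_ne_zero, if_true, if_false] at e00 e01 e10 e11
  have had : a + d ≠ 0 := fun h0 => h2 (by linear_combination a * h0 - e00 - hdet)
  have hb0 : b = 0 := (mul_eq_zero.1 (show b * (a + d) = 0 by linear_combination e01)).resolve_right had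
  have hc0 : c = 0 := (mul_eq_zero.1 (show c * (a + d) = 0 by linear_combination e10)).resolve_right had
  rw [hb0, zero_mul, add_zero] at e00
  rw [hb0, zero_mul, sub_zero] at hdet
  have hda : d = a := by linear_combination a * hdet - d * e00
  rcases mul_self_eq_one_iff.1 e00 with h1 | h1
  · refine absurd (Matrix.SpecialLinearGroup.ext g 1 fun i j => ?_) hne
    fin_cases i <;> fin_cases j <;> simp [← ha, ← hb, ← hc, ← hd, hb0, hc0, hda, h1]
  · refine Matrix.SpecialLinearGroup.ext g (-1) fun i j => ?_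
    fin_cases i <;> fin_cases j <;> simp [← ha, ← hb, ← hc, ← hd, hb0, hc0, hda, h1]

theorem neg_one_mem {K : Type*} [Field K] [Fintype K] (h2 : (2 : K) ≠ 0) (lam : K) (hlam : lam ≠ 0)
    (hgen : Subfield.closure ({lam} : Set K) = ⊤) :
    (-1 : SL(2, K)) ∈ Subgroup.closure ({lowR 1, upR lam} : Set SL(2, K)) := by
  classical
  rcases Cfsg.Agent.Classical.TwoTrans.main h2 lam hlam hgen with ⟨h, -⟩ | ⟨-, -, h⟩
  · rw [h]; trivial
  · haveI : Fact (Nat.Prime 2) := ⟨Nat.prime_two⟩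
    obtain ⟨g, hg⟩ := exists_prime_orderOf_dvd_card' (G := ↥(Subgroup.closure ({lowR 1, upR lam} : Set SL(2, K)))) 2
      (by rw [h]; norm_num)
    have h1 : (g : SL(2, K)) * g = 1 := by
      rw [← Subgroup.coe_mul, ← pow_two, (orderOf_eq_prime_iff.1 hg).1]; rfl
    have hne : (g : SL(2, K)) ≠ 1 := fun h0 => by
      rw [Subtype.ext h0 (a1 := g) (a2 := 1), orderOf_one] at hg; omega
    exact neg_one_of_involution h2 h1 hne ▸ g.2

variable {q : ℕ} {F : Type*} [Field F] [Fintype F] {σ : F →+* F} (hu : UCtx σ q)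
include hu

theorem exists_transvection {H : Subgroup (Su 3 F q)} (hH : Big σ H) {e m f : Vn 3 F} (h : Fr σ e m f) {c : F}
    (hc : c ∈ wGrp hu h H) (hc0 : c ≠ 0) {v : Vn 3 F} (hv0 : v ≠ 0) (hv : hB 3 σ v v = 0) :
    ∃ d : F, d ≠ 0 ∧ d + σ d = 0 ∧ tr hu v d ∈ H := by
  obtain ⟨g, hg, a, hga⟩ := hH.trans e v h.hp.e_ne h.hp.ee hv0 hv
  have ha : a ≠ 0 := smul_ne_zero_of_eq hu h.hp.e_ne hga
  refine ⟨a * σ a * c, mul_ne_zero (mul_ne_zero ha ((map_ne_zero σ).2 ha)) hc0, ?_, ?_⟩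
  · rw [map_mul, map_mul, hu.invol]; linear_combination a * σ a * hc.1
  · rw [← tr_smul hu hv hc.1, ← hga, ← conj_tr hu g h.hp.ee hc.1]
    exact H.mul_mem (H.mul_mem hg hc.2) (H.inv_mem hg)

/-- The reflection in the chord of a frame. -/
theorem reflection_mem (h2 : (2 : F) ≠ 0) {H : Subgroup (Su 3 F q)} {e m f : Vn 3 F} (h : Fr σ e m f) {c c' : F}
    (hc0 : c ≠ 0) (hc : c + σ c = 0) (hcH : tr hu e c ∈ H) (hc'0 : c' ≠ 0) (hc' : c' + σ c' = 0)
    (hc'H : tr hu f c' ∈ H) :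
    ∃ g ∈ H, mat g *ᵥ e = -e ∧ mat g *ᵥ f = -f ∧ mat g *ᵥ m = m := by
  classical
  obtain ⟨q1, q2, q3, q4, q5, q6, q7, q8, q9⟩ := h.relations hu
  let K : Subfield F := Subfield.closure {c * c'}
  let l : K := ⟨c * c', Subfield.subset_closure rfl⟩
  have hgen : Subfield.closure ({l} : Set K) = ⊤ := by
    apply eq_top_iff.2
    rintro ⟨x, hx⟩ -
    have hle : K ≤ (Subfield.closure ({l} : Set K)).map K.subtype :=
      Subfield.closure_le.2 (Set.singleton_subset_iff.2 ⟨l, Subfield.subset_closure rfl, rfl⟩)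
    obtain ⟨y, hy, hyx⟩ := hle hx
    exact (show y = ⟨x, hx⟩ from Subtype.ext hyx) ▸ hy
  have h2K : (2 : K) ≠ 0 := fun h0 => h2 (by
    have := congrArg K.subtype h0; rwa [map_ofNat, map_zero] at this)
  have hl0 : l ≠ 0 := fun h0 => mul_ne_zero hc0 hc'0 (congrArg Subtype.val h0)
  set f' := c' • f with hf'
  let R : Subgroup (Su 3 F q × SL(2, K)) :=
    { carrier := {p | mat p.1 *ᵥ m = m ∧
        mat p.1 *ᵥ e = ((p.2.1 0 0 : K) : F) • e + ((p.2.1 1 0 : K) : F) • f' ∧
        mat p.1 *ᵥ f' = ((p.2.1 0 1 : K) : F) • e + ((p.2.1 1 1 : K) : F) • f'}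
      one_mem' := by refine ⟨?_, ?_, ?_⟩ <;> simp [mat_one_mulVec]
      mul_mem' := fun {p p'} ⟨a1, a2, a3⟩ ⟨b1, b2, b3⟩ => by
        refine ⟨?_, ?_, ?_⟩
        · rw [Prod.fst_mul, mat_mul_mulVec, b1, a1]
        · rw [Prod.fst_mul, mat_mul_mulVec, b2, Matrix.mulVec_add, Matrix.mulVec_smul, Matrix.mulVec_smul, a2, a3]
          simp only [Prod.snd_mul, Matrix.SpecialLinearGroup.coe_mul, Matrix.mul_apply, Fin.sum_univ_two,
            Subfield.coe_add, Subfield.coe_mul]
          module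
        · rw [Prod.fst_mul, mat_mul_mulVec, b3, Matrix.mulVec_add, Matrix.mulVec_smul, Matrix.mulVec_smul, a2, a3]
          simp only [Prod.snd_mul, Matrix.SpecialLinearGroup.coe_mul, Matrix.mul_apply, Fin.sum_univ_two,
            Subfield.coe_add, Subfield.coe_mul]
          module
      inv_mem' := fun {p} ⟨a1, a2, a3⟩ => by
        set a : F := ((p.2.1 0 0 : K) : F)
        set b : F := ((p.2.1 0 1 : K) : F)
        set c₁ : F := ((p.2.1 1 0 : K) : F)
        set d : F := ((p.2.1 1 1 : K) : F)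
        have hdet : a * d - b * c₁ = 1 := by
          have h0 := congrArg (Subtype.val : K → F) p.2.2
          rw [Matrix.det_fin_two] at h0
          simpa using h0
        have he : mat p.1 *ᵥ (d • e - c₁ • f') = e := by
          rw [Matrix.mulVec_sub, Matrix.mulVec_smul, Matrix.mulVec_smul, a2, a3]
          match_scalars <;> first | ring1 | linear_combination hdet | linear_combination c' * hdet
        have hf : mat p.1 *ᵥ ((-b) • e + a • f') = f' := by
          rw [Matrix.mulVec_add, Matrix.mulVec_smul, Matrix.mulVec_smul, a2, a3]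
          match_scalars <;> first | ring1 | linear_combination hdet | linear_combination c' * hdet
        refine ⟨?_, ?_, ?_⟩
        · conv_lhs => rw [← a1, Prod.fst_inv, mat_inv_mulVec]
        · conv_lhs => rw [← he, Prod.fst_inv, mat_inv_mulVec]
          simp [Matrix.SpecialLinearGroup.coe_inv, Matrix.adjugate_fin_two, a, b, c₁, d, sub_eq_add_neg]
        · conv_lhs => rw [← hf, Prod.fst_inv, mat_inv_mulVec]
          simp [Matrix.SpecialLinearGroup.coe_inv, Matrix.adjugate_fin_two, a, b, c₁, d] }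
  let S : Set (Su 3 F q × SL(2, K)) := {(tr hu f c', lowR 1), (tr hu e c, upR l)}
  have hSR : Subgroup.closure S ≤ R := by
    refine (Subgroup.closure_le _).2 ?_
    rintro p (rfl | rfl)
    · refine ⟨?_, ?_, ?_⟩
      · rw [tr_mulVec hu q2 hc', q6]; simp
      · rw [tr_mulVec hu q2 hc', q4]; simp [coe_lowR, hf']
      · rw [hf', Matrix.mulVec_smul, tr_mulVec hu q2 hc', q2]; simp [coe_lowR]
    · refine ⟨?_, ?_, ?_⟩
      · rw [tr_mulVec hu q1 hc, q5]; simp
      · rw [tr_mulVec hu q1 hc, q1]; simp [coe_upR]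
      · rw [hf', Matrix.mulVec_smul, tr_mulVec hu q1 hc, q3]
        simp only [coe_upR, Matrix.of_apply, Matrix.cons_val', Matrix.cons_val_zero, Matrix.cons_val_one,
          Matrix.cons_val_fin_one, Matrix.empty_val', Subfield.coe_one, l]
        module
  have hSH : Subgroup.closure S ≤ H.prod ⊤ := by
    refine (Subgroup.closure_le _).2 ?_
    rintro p (rfl | rfl)
    · exact ⟨hc'H, trivial⟩
    · exact ⟨hcH, trivial⟩
  have hmap : (Subgroup.closure S).map (MonoidHom.snd _ _) = Subgroup.closure ({lowR 1, upR l} : Set SL(2, K)) := by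
    rw [MonoidHom.map_closure, Set.image_pair]; rfl
  obtain ⟨p, hp, hp1⟩ := (hmap ▸ neg_one_mem h2K l hl0 hgen : (-1 : SL(2, K)) ∈ (Subgroup.closure S).map _)
  obtain ⟨a1, a2, a3⟩ := hSR hp
  rw [show p.2 = -1 from hp1] at a2 a3
  simp at a2 a3
  refine ⟨p.1, (hSH hp).1, a2, ?_, a1⟩
  have h4 : c' • (mat p.1 *ᵥ f) = c' • -f := by rw [← Matrix.mulVec_smul, ← hf', a3, hf', smul_neg]
  exact smul_right_injective _ hc'0 h4

theorem top_of_transvection_odd (hF : Fintype.card F = q ^ 2) (hq : 3 ≤ q) (h2 : (2 : F) ≠ 0)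
    {H : Subgroup (Su 3 F q)} (hH : Big σ H) {e m f : Vn 3 F} (h : Fr σ e m f) {c : F} (hc : c ∈ wGrp hu h H)
    (hc0 : c ≠ 0) : H = ⊤ := by
  have hrefl : ∀ {e' m' f' : Vn 3 F}, Fr σ e' m' f' → ∀ g : Su 3 F q, mat g *ᵥ e' = -e' → mat g *ᵥ f' = -f' →
      mat g *ᵥ m' = m' → g ∈ H := by
    intro e' m' f' h' g g1 g2 g3
    obtain ⟨d, hd0, hd, hdH⟩ := exists_transvection hu hH h hc hc0 h'.hp.e_ne h'.hp.ee
    obtain ⟨d', hd'0, hd', hd'H⟩ := exists_transvection hu hH h hc hc0 h'.hp.f_ne h'.hp.ff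
    obtain ⟨k, hk, k1, k2, k3⟩ := reflection_mem hu h2 h' hd0 hd hdH hd'0 hd' hd'H
    rwa [h'.ext hu (g1.trans k1.symm) (g3.trans k3.symm) (g2.trans k2.symm)]
  obtain ⟨d', hd'0, hd', hd'H⟩ := exists_transvection hu hH h hc hc0 h.hp.f_ne h.hp.ff
  obtain ⟨r, hrH, r1, r2, r3⟩ := reflection_mem hu h2 h hc0 hc.1 hc.2 hd'0 hd' hd'H
  let N : Subgroup (Su 3 F q) := Subgroup.normalClosure {r}
  have hN : N ≤ H := by
    refine (Subgroup.closure_le _).2 fun x hx => ?_
    obtain ⟨y, hy, hyx⟩ := Group.mem_conjugatesOfSet_iff.1 hx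
    rw [Set.mem_singleton_iff] at hy
    subst hy
    obtain ⟨g, rfl⟩ := isConj_iff.1 hyx
    refine hrefl (h.conj hu g) _ ?_ ?_ ?_ <;> rw [mat_mul_mulVec, mat_mul_mulVec, mat_inv_mulVec]
    · rw [r1, Matrix.mulVec_neg]
    · rw [r2, Matrix.mulVec_neg]
    · rw [r3]
  have hN' : (N.map (mkU (n := 3) (F := F) (q := q))).Normal :=
    Subgroup.Normal.map inferInstance _ mkU_surjective
  haveI := Classical.isSimpleGroup_psu hF 3 le_rfl (by omega)
  rcases hN'.eq_bot_or_eq_top with hb | ht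
  · exfalso
    have h1 : mkU r = 1 := by
      rw [← Subgroup.mem_bot, ← hb]
      exact Subgroup.mem_map_of_mem _ (Subgroup.subset_normalClosure rfl)
    obtain ⟨a, ha⟩ := center_scalar hu (by omega) (mkU_eq_one_iff.1 h1)
    have he := smul_left_injective F h.hp.e_ne
      (show a • e = (-1 : F) • e by rw [← ha, r1, neg_one_smul])
    have hm := smul_left_injective F h.m_ne (show a • m = (1 : F) • m by rw [← ha, r3, one_smul])
    exact h2 (by linear_combination he - hm)
  · rw [eq_top_iff]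
    intro x _
    obtain ⟨y, hy, hyx⟩ := (show mkU x ∈ N.map mkU by rw [ht]; trivial)
    have hz : y⁻¹ * x ∈ H := hH.cen (mkU_eq_one_iff.1 (by rw [map_mul, map_inv, hyx, inv_mul_cancel]))
    simpa using H.mul_mem (hN hy) hz

end Cfsg.Agent.MinIndexPSU3
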