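import Cfsg.Agent.MinIndexPSU3.Fisher
import Cfsg.Agent.MinIndexPSU3.OddTransvection
import Cfsg.Agent.MinIndexPSU3.EvenTransvection
import Cfsg.Agent.MinIndexPSU3.NoTransvection

/-!
The minimal index of a proper subgroup of PSU_3(q).
-/

set_option autoImplicit false

namespace Cfsg.Agent.MinIndexPSU3

open AutPSU Matrix Classical.Herm

variable {q : ℕ} {F : Type*} [Field F] [Fintype F] {σ : F →+* F} (hu : UCtx σ q)
include hu

theorem center_le_lineStab (v : Vn 3 F) : Subgroup.center (Su 3 F q) ≤ lineStab v := fun z hz => by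
  obtain ⟨a, ha⟩ := center_scalar hu (by omega) hz
  exact mem_lineStab.2 ⟨a, ha v⟩

/-- A proper subgroup containing the centre has index at least q³ + 1. -/
theorem index_bound (hF : Fintype.card F = q ^ 2) (hq : 3 ≤ q) (h5 : q ≠ 5) (H : Subgroup (Su 3 F q))
    (hne : H ≠ ⊤) (hcen : Subgroup.center (Su 3 F q) ≤ H) : q ^ 3 + 1 ≤ H.index := by
  classical
  obtain ⟨e, m, f, h⟩ := exists_frame_base hu
  by_cases htr : ∀ v w : Vn 3 F, v ≠ 0 → hB 3 σ v v = 0 → w ≠ 0 → hB 3 σ w w = 0 →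
      ∃ g ∈ H, ∃ a : F, mat g *ᵥ v = a • w
  · by_contra hlt
    push Not at hlt
    have hbig : ∀ v : Vn 3 F, v ≠ 0 → hB 3 σ v v = 0 → q ^ 2 - 1 ≤ Nat.card ↥(H ⊓ lineStab v) := by
      intro v hv0 hv
      have : MulAction.IsPretransitive H (Pts hu) := ⟨fun P Q => by
        obtain ⟨x, hx0, hx, rfl⟩ := exists_mkPt hu P
        obtain ⟨y, hy0, hy, rfl⟩ := exists_mkPt hu Q
        obtain ⟨g, hg, a, hga⟩ := htr x y hx0 hx hy0 hy
        refine ⟨⟨g, hg⟩, ?_⟩
        show g • mkPt hu x hx0 hx = _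
        rw [smul_mkPt hu g hx0 hx, mkPt_eq_iff hu]
        exact ⟨a, hga.symm⟩⟩
      have h1 := (MulAction.stabilizer H (mkPt hu v hv0 hv)).index_mul_card
      rw [MulAction.index_stabilizer_of_transitive, card_pts hu] at h1
      have he' : MulAction.stabilizer H (mkPt hu v hv0 hv) = (H ⊓ lineStab v).subgroupOf H := by
        ext g
        rw [MulAction.mem_stabilizer_iff, Subgroup.mem_subgroupOf, Subgroup.mem_inf, ← stabilizer_mkPt hu hv0 hv,
          MulAction.mem_stabilizer_iff]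
        exact ⟨fun h => ⟨g.2, h⟩, fun h => h.2⟩
      rw [he', Nat.card_congr (Subgroup.subgroupOfEquivOfLe inf_le_left).toEquiv] at h1
      have h2 := H.index_mul_card
      rw [card_su hu, ← h1] at h2
      have h3 : H.index * Nat.card ↥(H ⊓ lineStab v) = q ^ 3 * (q ^ 2 - 1) := by
        refine Nat.eq_of_mul_eq_mul_left (Nat.succ_pos (q ^ 3)) ?_
        rw [← h2]; simp only [Nat.succ_eq_add_one]; ring
      have h4 := Nat.mul_le_mul_right (Nat.card ↥(H ⊓ lineStab v)) (Nat.lt_succ_iff.1 hlt)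
      rw [h3] at h4
      exact Nat.le_of_mul_le_mul_left h4 (pow_pos (by omega) 3)
    have hH : Big σ H := ⟨htr, hbig, hcen⟩
    by_cases hW : ∀ c : F, c + σ c = 0 → tr hu e c ∈ H → c = 0
    · exact no_free hu h5 hq hH h hW
    · push Not at hW
      obtain ⟨c, hc, hcH, hc0⟩ := hW
      obtain ⟨p, hp⟩ := CharP.exists F
      obtain ⟨n, hpp, hn⟩ := FiniteField.card F p
      by_cases h2 : (2 : F) = 0
      · haveI : CharP F 2 := CharTwo.of_one_ne_zero_of_two_eq_zero one_ne_zero h2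
        exact hne (top_of_transvection_even hu hq hH h ⟨hc, hcH⟩ hc0)
      · exact hne (top_of_transvection_odd hu hF hq h2 hH h ⟨hc, hcH⟩ hc0)
  · push Not at htr
    obtain ⟨v, w, hv0, hv, hw0, hw, hno⟩ := htr
    rw [← card_pts hu]
    refine fisher (two_transitive hu) H (mkPt hu v hv0 hv) (mkPt hu w hw0 hw) fun g hg hgv => ?_
    rw [smul_mkPt hu g hv0 hv, mkPt_eq_iff hu] at hgv
    obtain ⟨a, ha⟩ := hgv
    exact hno g hg a ha.symm

theorem psu_index_bound (hF : Fintype.card F = q ^ 2) (hq : 3 ≤ q) (h5 : q ≠ 5) :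
    (∀ H : Subgroup (Cfsg.PSU 3 F q), H ≠ ⊤ → q ^ 3 + 1 ≤ H.index) ∧
      ∃ H : Subgroup (Cfsg.PSU 3 F q), H.index = q ^ 3 + 1 := by
  constructor
  · intro H hH
    rw [← Subgroup.index_comap_of_surjective (f := mkU (n := 3) (F := F) (q := q)) H mkU_surjective]
    refine index_bound hu hF hq h5 _ (fun htop => hH ?_) fun z hz => ?_
    · rw [← Subgroup.map_comap_eq_self_of_surjective (f := mkU (n := 3) (F := F) (q := q)) mkU_surjective H, htop,
        Subgroup.map_top_of_surjective _ mkU_surjective]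
    · show mkU z ∈ H
      rw [mkU_eq_one_iff.2 hz]; exact H.one_mem
  · obtain ⟨e, m, f, h⟩ := exists_frame_base hu
    have := pretransitive hu
    refine ⟨(lineStab e).map mkU, ?_⟩
    rw [Subgroup.index_map, show (mkU (n := 3) (F := F) (q := q)).ker = Subgroup.center (Su 3 F q) from
        QuotientGroup.ker_mk' _, sup_eq_left.2 (center_le_lineStab hu e),
      MonoidHom.range_eq_top.2 mkU_surjective, Subgroup.index_top, mul_one,
      ← stabilizer_mkPt hu h.hp.e_ne h.hp.ee, MulAction.index_stabilizer_of_transitive, card_pts hu]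

end Cfsg.Agent.MinIndexPSU3
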