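import Mathlib

/-!
The orbit equation for a group in which every non-trivially acting element fixes exactly two points.
-/

set_option autoImplicit false

namespace Cfsg.Agent.MinIndexPSU3

open MulAction

/-- The arithmetic of three non-regular orbits. -/
theorem three_orbits {M c u w a b d : ℕ} (hM : 0 < M) (hc : 3 ≤ c) (hu : 2 ≤ u) (hw : 2 ≤ w) (ha : a * c = M)
    (hb : b * u = M) (hd : d * w = M) (h : a + b + d = M + 2) :
    M = 2 * c ∨ (c = 3 ∧ (M = 12 ∨ M = 24 ∨ M = 60)) ∨ (c = 4 ∧ M = 24) ∨ (c = 5 ∧ M = 60) := by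
  wlog huw : u ≤ w generalizing u w b d
  · exact this hw hu hd hb (by omega) (by omega)
  have hle : ∀ {n s k : ℕ}, n * s = M → k ≤ s → n * k ≤ M := fun h1 h2 => h1 ▸ Nat.mul_le_mul_left _ h2
  have hu2 : u = 2 := by
    by_contra hu2
    have := hle ha hc; have := hle hb (show 3 ≤ u by omega); have := hle hd (show 3 ≤ w by omega)
    omega
  subst hu2
  rcases (show w = 2 ∨ w = 3 ∨ 4 ≤ w by omega) with rfl | rfl | hw4
  · left
    have ha2 : a = 2 := by omega
    rw [← ha, ha2]
  · have hc5 : c ≤ 5 := by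
      by_contra hc6
      have := hle ha (show 6 ≤ c by omega)
      omega
    interval_cases c <;> omega
  · have hc3 : c = 3 := by
      by_contra hc3
      have := hle ha (show 4 ≤ c by omega); have := hle hd hw4
      omega
    subst hc3
    have hw5 : w ≤ 5 := by
      by_contra hw6
      have := hle hd (show 6 ≤ w by omega)
      omega
    interval_cases w <;> omega

theorem orbit_equation {C X : Type*} [Group C] [Finite C] [MulAction C X] [Finite X] (K : Subgroup C)
    (hK : ∀ g ∈ K, ∀ x : X, g • x = x) (h2 : ∀ g : C, g ∉ K → Nat.card (fixedBy X g) = 2) (x : X) (M c : ℕ)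
    (hM : Nat.card C = M * Nat.card K) (hc : Nat.card (stabilizer C x) = c * Nat.card K) (hc3 : 3 ≤ c) :
    M = c ∨ M = 2 * c ∨ (c = 3 ∧ (M = 12 ∨ M = 24 ∨ M = 60)) ∨ (c = 4 ∧ M = 24) ∨ (c = 5 ∧ M = 60) := by
  classical
  have : Fintype C := Fintype.ofFinite C
  have : Fintype X := Fintype.ofFinite X
  set k := Nat.card K with hk
  have hk0 : 0 < k := Nat.card_pos
  set N := Nat.card C with hN
  have hN0 : 0 < N := Nat.card_pos
  have hM0 : 0 < M := Nat.pos_of_ne_zero fun h0 => by rw [h0, zero_mul] at hM; omega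
  let Q := Quotient (orbitRel C X)
  have : Fintype Q := Fintype.ofFinite _
  let n : Q → ℕ := fun o => Nat.card (orbit C o.out)
  have hsum : Fintype.card X = ∑ o, n o := by
    rw [Fintype.card_congr (selfEquivSigmaOrbits C X), Fintype.card_sigma]
    exact Finset.sum_congr rfl fun o _ => Nat.card_eq_fintype_card.symm
  have hburn := sum_card_fixedBy_eq_card_orbits_mul_card_group C X
  have hlhs : ∑ g : C, Fintype.card (fixedBy X g) = k * Fintype.card X + 2 * (N - k) := by
    rw [← Finset.sum_filter_add_sum_filter_not Finset.univ (fun g : C => g ∈ K)]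
    have e1 : ∀ g ∈ Finset.univ.filter (fun g : C => g ∈ K), Fintype.card (fixedBy X g) = Fintype.card X :=
      fun g hg => by
        rw [Finset.mem_filter] at hg
        exact Fintype.card_congr (Equiv.subtypeUnivEquiv fun y => hK g hg.2 y)
    have e2 : ∀ g ∈ Finset.univ.filter (fun g : C => ¬ g ∈ K), Fintype.card (fixedBy X g) = 2 := fun g hg => by
      rw [Finset.mem_filter] at hg
      rw [← Nat.card_eq_fintype_card, h2 g hg.2]
    rw [Finset.sum_congr rfl e1, Finset.sum_congr rfl e2, Finset.sum_const, Finset.sum_const, smul_eq_mul,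
      smul_eq_mul]
    have hkc : (Finset.univ.filter fun g : C => g ∈ K).card = k := by
      rw [hk, Nat.card_eq_fintype_card, Fintype.card_subtype]
    have hnc : (Finset.univ.filter fun g : C => ¬ g ∈ K).card = N - k := by
      have := Finset.card_filter_add_card_filter_not (s := (Finset.univ : Finset C)) (fun g : C => g ∈ K)
      rw [hN, Nat.card_eq_fintype_card, ← Finset.card_univ]
      omega
    rw [hkc, hnc, Nat.mul_comm (N - k) 2]
  rw [hlhs] at hburn
  have hkey : (∑ o, n o) + 2 * (M - 1) = Fintype.card Q * M := by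
    refine Nat.eq_of_mul_eq_mul_left hk0 ?_
    rw [Nat.mul_add, ← hsum, Nat.mul_left_comm k 2, Nat.mul_sub_one, Nat.mul_comm k M, ← hM, hburn,
      ← Nat.card_eq_fintype_card (α := C), ← hN, hM]
    ring
  have hpos : ∀ o, 0 < n o := fun o => by
    have : Nonempty (orbit C o.out) := ⟨⟨_, mem_orbit_self _⟩⟩
    exact Nat.card_pos
  have hne : ∀ o, ∃ e, n o * e = M ∧ 1 ≤ e := fun o => by
    have hos : n o * Nat.card (stabilizer C o.out) = N := by
      simp only [n, hN, Nat.card_eq_fintype_card]
      exact card_orbit_mul_card_stabilizer_eq_card_group C o.out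
    have hle : K ≤ stabilizer C o.out := fun g hg => hK g hg _
    obtain ⟨e, he⟩ := Subgroup.card_dvd_of_le hle
    refine ⟨e, ?_, Nat.pos_of_ne_zero fun h0 => by
      rw [h0, mul_zero] at he; exact absurd he Nat.card_pos.ne'⟩
    refine Nat.eq_of_mul_eq_mul_left hk0 ?_
    rw [he, hM] at hos
    rw [hk] at *
    linarith
  have hnle : ∀ o, n o ≤ M := fun o => by
    obtain ⟨e, he, he1⟩ := hne o
    calc n o = n o * 1 := (mul_one _).symm
      _ ≤ n o * e := Nat.mul_le_mul_left _ he1
      _ = M := he
  have hdef : ∑ o, (M - n o) = 2 * (M - 1) := by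
    have : ∑ o, (M - n o) + ∑ o, n o = Fintype.card Q * M := by
      rw [← Finset.sum_add_distrib, Finset.sum_congr rfl fun o _ => Nat.sub_add_cancel (hnle o), Finset.sum_const,
        Finset.card_univ, smul_eq_mul]
    omega
  -- the orbit of x
  let o₁ : Q := Quotient.mk _ x
  have hn₁ : n o₁ * c = M := by
    have horb : orbit C o₁.out = orbit C x := orbit_eq_iff.2 (Quotient.mk_out (s := orbitRel C X) x)
    have h1 : n o₁ = Nat.card (orbit C x) := by simp only [n]; rw [horb]
    have h2' : Nat.card (orbit C x) * Nat.card (stabilizer C x) = N := by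
      simp only [hN, Nat.card_eq_fintype_card]
      exact card_orbit_mul_card_stabilizer_eq_card_group C x
    rw [hc, hM, ← h1] at h2'
    refine Nat.eq_of_mul_eq_mul_left hk0 ?_
    linarith
  set S := Finset.univ.filter (fun o => n o < M) with hS
  have hsumS : ∑ o ∈ S, (M - n o) = 2 * (M - 1) := by
    rw [← hdef]
    refine Finset.sum_subset (Finset.subset_univ _) fun o _ ho => ?_
    simp only [hS, Finset.mem_filter, Finset.mem_univ, true_and] at ho
    omega
  have h₁S : o₁ ∈ S := by
    simp only [hS, Finset.mem_filter, Finset.mem_univ, true_and]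
    have := hpos o₁
    nlinarith
  have hhalf : ∀ o ∈ S, M ≤ 2 * (M - n o) ∧ ∃ e, 2 ≤ e ∧ n o * e = M := fun o ho => by
    simp only [hS, Finset.mem_filter, Finset.mem_univ, true_and] at ho
    obtain ⟨e, he, he1⟩ := hne o
    have he2 : 2 ≤ e := by
      by_contra h0
      have he' : e = 1 := by omega
      rw [he', mul_one] at he; omega
    have h2n : n o * 2 ≤ M := he ▸ Nat.mul_le_mul_left _ he2
    exact ⟨by omega, e, he2, he⟩
  have hcard : S.card ≤ 3 := by
    by_contra hlt
    have h1 : S.card • M ≤ ∑ o ∈ S, 2 * (M - n o) := Finset.card_nsmul_le_sum _ _ _ fun o ho => (hhalf o ho).1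
    rw [← Finset.mul_sum, hsumS, smul_eq_mul] at h1
    have : 4 * M ≤ S.card * M := Nat.mul_le_mul_right _ (by omega)
    omega
  have hS1 : 0 < S.card := Finset.card_pos.2 ⟨o₁, h₁S⟩
  have herase := Finset.add_sum_erase S (fun o => M - n o) h₁S
  have hnm1 := hpos o₁
  rcases (show S.card = 1 ∨ S.card = 2 ∨ S.card = 3 by omega) with h | h | h
  · obtain ⟨o, ho⟩ := Finset.card_eq_one.1 h
    rw [ho, Finset.sum_singleton] at hsumS
    have := hpos o
    have hle2 : 3 ≤ M := by nlinarith
    omega
  · left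
    obtain ⟨o, ho⟩ := Finset.card_eq_one.1 (show (S.erase o₁).card = 1 by rw [Finset.card_erase_of_mem h₁S, h])
    rw [ho, Finset.sum_singleton, hsumS] at herase
    have := hpos o; have := hnle o; have := hnle o₁
    have hn1 : n o₁ = 1 := by omega
    rw [hn1, one_mul] at hn₁
    exact hn₁.symm
  · right
    obtain ⟨o₂, o₃, h23, ho⟩ := Finset.card_eq_two.1 (show (S.erase o₁).card = 2 by
      rw [Finset.card_erase_of_mem h₁S, h])
    have hm : ∀ o ∈ ({o₂, o₃} : Finset Q), o ∈ S := fun o hoo => Finset.mem_of_mem_erase (ho ▸ hoo)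
    obtain ⟨-, u, hu2, hu'⟩ := hhalf o₂ (hm _ (by simp))
    obtain ⟨-, w, hw2, hw'⟩ := hhalf o₃ (hm _ (by simp))
    rw [ho, Finset.sum_pair h23, hsumS] at herase
    have := hnle o₁; have := hnle o₂; have := hnle o₃
    exact three_orbits hM0 hc3 hu2 hw2 hn₁ hu' hw' (by omega)

end Cfsg.Agent.MinIndexPSU3
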