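import Cfsg.Agent.AutPSU.Basic

/-!
A quadratic with coefficients in the fixed field has a root in the field.
-/

set_option autoImplicit false

namespace Cfsg.Agent.MinIndexPSU3

open AutPSU Classical.Herm Polynomial

variable {q : ℕ} {F : Type*} [Field F] [Fintype F] {σ : F →+* F}

/-- Solutions of x^card = x in an extension come from the field. -/
theorem mem_range_of_pow_card {E : Type*} [Field E] [Algebra F E] {x : E} (hx : x ^ Fintype.card F = x) :
    ∃ a : F, algebraMap F E a = x := by
  classical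
  set P : E[X] := X ^ Fintype.card F - X with hP
  have h1 : 1 < Fintype.card F := Fintype.one_lt_card
  have hP0 : P ≠ 0 := FiniteField.X_pow_card_sub_X_ne_zero E h1
  have hdeg : P.natDegree = Fintype.card F := FiniteField.X_pow_card_sub_X_natDegree_eq E h1
  have hroot : ∀ y : E, y ∈ P.roots.toFinset ↔ y ^ Fintype.card F = y := fun y => by
    rw [Multiset.mem_toFinset, mem_roots hP0, IsRoot.def, hP, eval_sub, eval_pow, eval_X, sub_eq_zero]
  have hsub : Finset.univ.image (algebraMap F E) ⊆ P.roots.toFinset := fun y hy => by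
    obtain ⟨a, -, rfl⟩ := Finset.mem_image.1 hy
    rw [hroot, ← map_pow, FiniteField.pow_card]
  have heq := Finset.eq_of_subset_of_card_le hsub (by
    rw [Finset.card_image_of_injective _ (algebraMap F E).injective, Finset.card_univ]
    exact ((Multiset.toFinset_card_le _).trans (card_roots' P)).trans hdeg.le)
  obtain ⟨a, -, ha⟩ := Finset.mem_image.1 (heq.symm ▸ (hroot x).2 hx : x ∈ Finset.univ.image (algebraMap F E))
  exact ⟨a, ha⟩

theorem exists_root_fixed (hu : UCtx σ q) {A B C : F} (hA0 : A ≠ 0) (hA : σ A = A) (hB : σ B = B) (hC : σ C = C) :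
    ∃ r : F, A * r ^ 2 + B * r + C = 0 := by
  classical
  let E := AlgebraicClosure F
  let ι : F →+* E := algebraMap F E
  have hdeg : (Polynomial.C (ι A) * X ^ 2 + Polynomial.C (ι B) * X + Polynomial.C (ι C)).degree ≠ 0 := by
    rw [degree_quadratic ((map_ne_zero ι).2 hA0)]
    decide
  obtain ⟨ξ, hξ⟩ := IsAlgClosed.exists_root _ hdeg
  simp only [IsRoot.def, eval_add, eval_mul, eval_pow, eval_C, eval_X] at hξ
  obtain ⟨p, hp⟩ := CharP.exists F
  obtain ⟨k, hpp, hk⟩ := FiniteField.card F p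
  haveI : Fact p.Prime := ⟨hpp⟩
  haveI : CharP E p := charP_of_injective_ringHom ι.injective p
  have hFq : Fintype.card F = q ^ 2 := by
    rw [← Nat.card_eq_fintype_card, card_eq_fix_sq hu.toIsInvol, hu.card_fix]
  obtain ⟨i, -, hi⟩ := (Nat.dvd_prime_pow hpp).1 (show q ∣ p ^ (k : ℕ) by
    rw [← hk, hFq, pow_two]; exact dvd_mul_right q q)
  let φ : E →+* E := iterateFrobenius E p i
  have hφ : ∀ y : E, φ y = y ^ q := fun y => by rw [iterateFrobenius_def, hi]
  have hφι : ∀ a : F, σ a = a → φ (ι a) = ι a := fun a ha => by rw [hφ, ← map_pow, ← hu.pow, ha]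
  have hroot : ∀ y : E, ι A * y ^ 2 + ι B * y + ι C = 0 → ι A * φ y ^ 2 + ι B * φ y + ι C = 0 := fun y hy => by
    have := congrArg φ hy
    simpa only [map_add, map_mul, map_pow, map_zero, hφι A hA, hφι B hB, hφι C hC] using this
  have h2 : φ (φ ξ) = ξ := by
    by_cases h0 : φ ξ = ξ
    · rw [h0, h0]
    · have h1 := hroot ξ hξ
      have h3 := hroot _ h1
      have e : ∀ y z : E, y ≠ z → ι A * y ^ 2 + ι B * y + ι C = 0 → ι A * z ^ 2 + ι B * z + ι C = 0 →
          ι A * (y + z) + ι B = 0 := fun y z hyz hy hz =>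
        mul_left_cancel₀ (sub_ne_zero.2 hyz) (by linear_combination hy - hz)
      have e1 := e ξ (φ ξ) (Ne.symm h0) hξ h1
      have e2 := e (φ ξ) (φ (φ ξ)) (fun h4 => h0 (φ.injective h4.symm)) h1 h3
      exact mul_left_cancel₀ ((map_ne_zero ι).2 hA0) (by linear_combination e2 - e1)
  rw [hφ, hφ, ← pow_mul, ← pow_two, ← hFq] at h2
  obtain ⟨r, hr⟩ := mem_range_of_pow_card h2
  refine ⟨r, ι.injective ?_⟩
  simp only [map_add, map_mul, map_pow, map_zero]
  rw [show ι r = ξ from hr]
  exact hξ

end Cfsg.Agent.MinIndexPSU3
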