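import Cfsg.Agent.MinIndexPSU3.Pts
import Cfsg.Agent.MinIndexPSU3.Equation
import Cfsg.Agent.MinIndexPSU3.Quadratic

/-!
A subgroup transitive on the isotropic points of a chord, with semisimple elements: the orbit equation
on the lines of the plane of the chord.
-/

set_option autoImplicit false

namespace Cfsg.Agent.MinIndexPSU3

open AutPSU Matrix Classical.Herm

variable {q : ℕ} {F : Type*} [Field F] {σ : F →+* F}

/-- An element of finite order fixing a line, unipotent on a plane, is semisimple there. -/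
theorem unip {g : Su 3 F q} {v w : Vn 3 F} {a b : F} (hv0 : v ≠ 0) (hv : mat g *ᵥ v = a • v)
    (hw : mat g *ᵥ w = a • w + b • v) {N : ℕ} (hN : g ^ N = 1) : (N : F) * b = 0 := by
  have ha : a ≠ 0 := fun h0 => mat_mulVec_ne_zero g hv0 (by rw [hv, h0, zero_smul])
  have key : ∀ i : ℕ, mat (g ^ i) *ᵥ v = a ^ i • v ∧
      mat (g ^ i) *ᵥ w = a ^ i • w + ((i : F) * a ^ i * (b / a)) • v := fun i => by
    induction i with
    | zero => simp [mat_one_mulVec]
    | succ i ih =>
      refine ⟨by rw [pow_succ' g, mat_mul_mulVec, ih.1, Matrix.mulVec_smul, hv, smul_smul, pow_succ], ?_⟩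
      rw [pow_succ' g, mat_mul_mulVec, ih.2, Matrix.mulVec_add, Matrix.mulVec_smul, Matrix.mulVec_smul, hw, hv,
        smul_add, smul_smul, smul_smul, smul_smul, add_assoc, ← add_smul, pow_succ]
      congr 2
      push_cast
      field_simp
      ring
  obtain ⟨h1, h2⟩ := key N
  rw [hN, mat_one_mulVec] at h1 h2
  have haN : a ^ N = 1 := smul_left_injective F hv0 (show a ^ N • v = (1 : F) • v by rw [← h1, one_smul])
  rw [haN, one_smul, left_eq_add, smul_eq_zero] at h2
  have h3 := h2.resolve_right hv0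
  rw [mul_one, ← mul_div_assoc, div_eq_zero_iff] at h3
  exact h3.resolve_right ha

/-- The lines of the plane orthogonal to m. -/
def Plane (σ : F →+* F) (m : Vn 3 F) : Type _ := {P : Projectivization F (Vn 3 F) // hB 3 σ m P.rep = 0}

/-- The line of a vector of the plane. -/
def mkPlane (m v : Vn 3 F) (hv0 : v ≠ 0) (hv : hB 3 σ m v = 0) : Plane σ m :=
  ⟨Projectivization.mk F v hv0, by
    obtain ⟨t, ht⟩ := Projectivization.exists_smul_eq_mk_rep F v hv0
    rw [← ht, Units.smul_def, map_smul, hv, smul_zero]⟩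

theorem exists_mkPlane {m : Vn 3 F} (P : Plane σ m) : ∃ v hv0 hv, mkPlane m v hv0 hv = P :=
  ⟨P.1.rep, P.1.rep_nonzero, P.2, Subtype.ext (Projectivization.mk_rep P.1)⟩

theorem mkPlane_eq_iff {m v w : Vn 3 F} (hv0 : v ≠ 0) (hv : hB 3 σ m v = 0) (hw0 : w ≠ 0)
    (hw : hB 3 σ m w = 0) : mkPlane m v hv0 hv = mkPlane m w hw0 hw ↔ ∃ a : F, a • w = v :=
  ⟨fun h => (Projectivization.mk_eq_mk_iff' F v w hv0 hw0).1 (congrArg Subtype.val h),
    fun h => Subtype.ext ((Projectivization.mk_eq_mk_iff' F v w hv0 hw0).2 h)⟩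

variable [Fintype F] (hu : UCtx σ q)
include hu

theorem plane_invariant {m v : Vn 3 F} (hm : m ≠ 0) {g : Su 3 F q} (hg : g ∈ lineStab m)
    (hv : hB 3 σ m v = 0) : hB 3 σ m (mat g *ᵥ v) = 0 := by
  obtain ⟨μ, hμ⟩ := hg
  have h0 := hB_mat hu g m v
  rw [hμ, hv, map_smulₛₗ, LinearMap.smul_apply, smul_eq_mul, mul_eq_zero] at h0
  exact h0.resolve_left ((map_ne_zero σ).2 fun h1 => mat_mulVec_ne_zero g hm (by rw [hμ, h1, zero_smul]))

omit hu in
theorem finite_plane (m : Vn 3 F) : Finite (Plane σ m) := by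
  haveI : Finite (Projectivization F (Vn 3 F)) := Quotient.finite _
  exact Finite.of_injective (β := Projectivization F (Vn 3 F)) Subtype.val Subtype.val_injective

/-- The action on the lines of the plane. -/
@[reducible] noncomputable def planeAct {m : Vn 3 F} (hm : m ≠ 0) (C : Subgroup (Su 3 F q))
    (hC : C ≤ lineStab m) : MulAction C (Plane σ m) where
  smul g P := mkPlane m (mat g.1 *ᵥ P.1.rep) (mat_mulVec_ne_zero g.1 P.1.rep_nonzero)
    (plane_invariant hu hm (hC g.2) P.2)
  one_smul P := by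
    apply Subtype.ext
    show Projectivization.mk F (mat (1 : Su 3 F q) *ᵥ P.1.rep) _ = P.1
    simp only [mat_one_mulVec, Projectivization.mk_rep]
  mul_smul g g' P := by
    apply Subtype.ext
    show Projectivization.mk F (mat (g.1 * g'.1) *ᵥ P.1.rep) _ =
      Projectivization.mk F (mat g.1 *ᵥ (Projectivization.mk F (mat g'.1 *ᵥ P.1.rep) _).rep) _
    refine (Projectivization.mk_eq_mk_iff' F _ _ _ _).2 ?_
    obtain ⟨t, ht⟩ := Projectivization.exists_smul_eq_mk_rep F (mat g'.1 *ᵥ P.1.rep)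
      (mat_mulVec_ne_zero g'.1 P.1.rep_nonzero)
    refine ⟨((t⁻¹ : Fˣ) : F), ?_⟩
    rw [← ht, Units.smul_def, Matrix.mulVec_smul, smul_smul, Units.inv_mul, one_smul, mat_mul_mulVec]

theorem smul_mkPlane {m : Vn 3 F} (hm : m ≠ 0) (C : Subgroup (Su 3 F q)) (hC : C ≤ lineStab m) (g : C)
    {v : Vn 3 F} (hv0 : v ≠ 0) (hv : hB 3 σ m v = 0) :
    (planeAct hu hm C hC).smul g (mkPlane m v hv0 hv) =
      mkPlane m (mat g.1 *ᵥ v) (mat_mulVec_ne_zero g.1 hv0) (plane_invariant hu hm (hC g.2) hv) := by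
  apply Subtype.ext
  show Projectivization.mk F (mat g.1 *ᵥ (Projectivization.mk F v hv0).rep) _ =
    Projectivization.mk F (mat g.1 *ᵥ v) _
  refine (Projectivization.mk_eq_mk_iff' F _ _ _ _).2 ?_
  obtain ⟨t, ht⟩ := Projectivization.exists_smul_eq_mk_rep F v hv0
  exact ⟨(t : F), by rw [← ht, Units.smul_def, Matrix.mulVec_smul]⟩

variable {e m f : Vn 3 F}

/-- The matrix of an element on the plane and its relations. -/
theorem plane_coords (h : Fr σ e m f) {g : Su 3 F q} (hg : g ∈ lineStab m) :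
    ∃ a b c d : F, mat g *ᵥ e = a • e + c • f ∧ mat g *ᵥ f = b • e + d • f ∧
      σ a * c + σ c * a = 0 ∧ σ b * d + σ d * b = 0 ∧ σ a * d + σ c * b = 1 := by
  obtain ⟨q1, q2, q3, q4, q5, q6, q7, q8, q9⟩ := h.relations hu
  refine ⟨hB 3 σ f (mat g *ᵥ e), hB 3 σ f (mat g *ᵥ f), hB 3 σ e (mat g *ᵥ e), hB 3 σ e (mat g *ᵥ f), ?he, ?hf,
    ?r1, ?r2, ?r3⟩
  case he =>
    conv_lhs => rw [h.repr hu (mat g *ᵥ e), plane_invariant hu h.m_ne hg q7, zero_smul, add_zero]
  case hf =>
    conv_lhs => rw [h.repr hu (mat g *ᵥ f), plane_invariant hu h.m_ne hg q8, zero_smul, add_zero]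
  case r1 =>
    have h0 := hB_mat hu g e e
    rw [h.repr hu (mat g *ᵥ e), plane_invariant hu h.m_ne hg q7] at h0
    simp only [zero_smul, add_zero, map_add, map_smulₛₗ, LinearMap.add_apply, LinearMap.smul_apply, smul_eq_mul,
      RingHom.id_apply, q1, q2, q3, q4] at h0
    linear_combination h0
  case r2 =>
    have h0 := hB_mat hu g f f
    rw [h.repr hu (mat g *ᵥ f), plane_invariant hu h.m_ne hg q8] at h0
    simp only [zero_smul, add_zero, map_add, map_smulₛₗ, LinearMap.add_apply, LinearMap.smul_apply, smul_eq_mul,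
      RingHom.id_apply, q1, q2, q3, q4] at h0
    linear_combination h0
  case r3 =>
    have h0 := hB_mat hu g e f
    rw [h.repr hu (mat g *ᵥ f), plane_invariant hu h.m_ne hg q8, h.repr hu (mat g *ᵥ e),
      plane_invariant hu h.m_ne hg q7] at h0
    simp only [zero_smul, add_zero, map_add, map_smulₛₗ, LinearMap.add_apply, LinearMap.smul_apply, smul_eq_mul,
      RingHom.id_apply, q1, q2, q3, q4] at h0
    linear_combination h0

omit [Fintype F] in
/-- The fixed lines: a quadratic over the fixed field. -/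
theorem fixed_quadratic [Finite F] {a b c d : F} (r1 : σ a * c + σ c * a = 0) (r2 : σ b * d + σ d * b = 0)
    (r3 : σ a * d + σ c * b = 1) (hb : b ≠ 0) : ∃ s : F, b * s ^ 2 + (a - d) * s - c = 0 := by
  haveI : Fintype F := Fintype.ofFinite F
  have r4 : a * σ d + c * σ b = 1 := by
    have := congrArg σ r3
    simpa [map_add, map_mul, hu.invol] using this
  set D := a * d - b * c with hD
  have ha : a = D * σ a := by
    rw [hD]; linear_combination -a * r3 + b * r1
  have hc : c = -(D * σ c) := by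
    rw [hD]; linear_combination -c * r3 + d * r1
  have hd : d = D * σ d := by
    rw [hD]; linear_combination -d * r4 + c * r2
  have hb' : b = -(D * σ b) := by
    rw [hD]; linear_combination -b * r4 + a * r2
  have hb2 : σ b = σ D * (-b) := by
    have := congrArg σ hb'
    simp only [map_neg, map_mul, hu.invol] at this
    linear_combination this
  have hN : D * σ D = 1 := by
    have h1 : b * (D * σ D - 1) = 0 := by linear_combination -hb' + D * hb2
    exact sub_eq_zero.1 ((mul_eq_zero.1 h1).resolve_left hb)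
  obtain ⟨μ, hμ0, hμ⟩ := exists_conj_quot hu.toIsInvol hN
  obtain ⟨k, hk0, hk⟩ := skew_exists hu
  have hk' : σ k = -k := eq_neg_of_add_eq_zero_right hk
  have hsμ : σ μ ≠ 0 := (map_ne_zero σ).2 hμ0
  rw [div_eq_iff hsμ] at hμ
  have hA : σ (b * k / μ) = b * k / μ := by
    rw [map_div₀, map_mul, hk', div_eq_div_iff hsμ hμ0]
    linear_combination (-k * σ b) * hμ + (-k * σ μ) * hb'
  have hB : σ ((a - d) / μ) = (a - d) / μ := by
    rw [map_div₀, map_sub, div_eq_div_iff hsμ hμ0]
    linear_combination (σ a - σ d) * hμ + (-σ μ) * ha + σ μ * hd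
  have hC : σ (-c / (k * μ)) = -c / (k * μ) := by
    rw [map_div₀, map_mul, map_neg, hk', div_eq_div_iff (mul_ne_zero (neg_ne_zero.2 hk0) hsμ) (mul_ne_zero hk0 hμ0)]
    linear_combination (-k * σ c) * hμ + (-k * σ μ) * hc
  obtain ⟨r, hr⟩ := exists_root_fixed hu (div_ne_zero (mul_ne_zero hb hk0) hμ0) hA hB hC
  refine ⟨k * r, ?_⟩
  field_simp at hr
  linear_combination hr

/-- Non-scalar elements fix exactly two lines of the plane. -/
theorem card_fixed (h : Fr σ e m f) {C : Subgroup (Su 3 F q)} (hC : C ≤ lineStab m)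
    (hp : (Nat.card C : F) ≠ 0) (g : C)
    (hg : ¬ ∃ a : F, mat g.1 *ᵥ e = a • e ∧ mat g.1 *ᵥ f = a • f) :
    letI := planeAct hu h.m_ne C hC
    Nat.card (MulAction.fixedBy (Plane σ m) g) = 2 := by
  classical
  let : MulAction C (Plane σ m) := planeAct hu h.m_ne C hC
  obtain ⟨q1, q2, q3, q4, q5, q6, q7, q8, q9⟩ := h.relations hu
  have hgN : g.1 ^ Nat.card C = 1 := by
    rw [← SubgroupClass.coe_pow, pow_card_eq_one', Subgroup.coe_one]
  have hun : ∀ {v w : Vn 3 F} {a b : F}, v ≠ 0 → mat g.1 *ᵥ v = a • v → mat g.1 *ᵥ w = a • w + b • v → b = 0 :=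
    fun hv0 hv hw => (mul_eq_zero.1 (unip hv0 hv hw hgN)).resolve_left hp
  obtain ⟨a, b, c, d, hge, hgf, r1, r2, r3⟩ := plane_coords hu h (hC g.2)
  have hlin : ∀ {x y x' y' : F}, x • e + y • f = x' • e + y' • f → x = x' ∧ y = y' := fun {x y x' y'} h0 => by
    have h1 := congrArg (hB 3 σ f) h0
    have h2 := congrArg (hB 3 σ e) h0
    simp only [map_add, map_smul, smul_eq_mul, q1, q2, q3, q4, mul_zero, mul_one, zero_add, add_zero] at h1 h2
    exact ⟨h1, h2⟩
  have hes : ∀ s : F, hB 3 σ m (e + s • f) = 0 := fun s => by rw [map_add, map_smul, q7, q8, smul_zero, add_zero]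
  have hes0 : ∀ s : F, e + s • f ≠ 0 := fun s h0 => one_ne_zero (α := F)
    (hlin (x' := 0) (y' := 0) (by simpa using h0 : (1 : F) • e + s • f = (0 : F) • e + (0 : F) • f)).1
  let L : F → Plane σ m := fun s => mkPlane m (e + s • f) (hes0 s) (hes s)
  let Linf : Plane σ m := mkPlane m f h.hp.f_ne q8
  have hLinj : Function.Injective L := fun s t hst => by
    obtain ⟨r, hr⟩ := (mkPlane_eq_iff _ _ _ _).1 hst
    rw [smul_add, smul_smul] at hr
    obtain ⟨h1, h2⟩ := hlin (x' := 1) (y' := s) (hr.trans (by rw [one_smul]))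
    rw [h1, one_mul] at h2
    exact h2.symm
  have hLne : ∀ s, L s ≠ Linf := fun s hst => by
    obtain ⟨r, hr⟩ := (mkPlane_eq_iff _ _ _ _).1 hst
    exact zero_ne_one (hlin (x := 0) (x' := 1) (y := r) (y' := s) (by rw [hr]; simp)).1
  have hcases : ∀ P : Plane σ m, P = Linf ∨ ∃ s, P = L s := fun P => by
    obtain ⟨v, hv0, hv, rfl⟩ := exists_mkPlane P
    have hrep := h.repr hu v
    rw [hv, zero_smul, add_zero] at hrep
    by_cases h0 : hB 3 σ f v = 0
    · left
      refine (mkPlane_eq_iff _ _ _ _).2 ⟨hB 3 σ e v, ?_⟩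
      conv_rhs => rw [hrep, h0, zero_smul, zero_add]
    · right
      refine ⟨(hB 3 σ f v)⁻¹ * hB 3 σ e v, (mkPlane_eq_iff _ _ _ _).2 ⟨hB 3 σ f v, ?_⟩⟩
      conv_rhs => rw [hrep]
      rw [smul_add, smul_smul, mul_inv_cancel_left₀ h0]
  have hfixinf : g • Linf = Linf ↔ b = 0 := by
    show (planeAct hu h.m_ne C hC).smul g (mkPlane m f _ _) = _ ↔ _
    rw [smul_mkPlane hu, mkPlane_eq_iff]
    constructor
    · rintro ⟨r, hr⟩
      exact ((hlin (x := 0) (y := r) (x' := b) (y' := d) (by rw [zero_smul, zero_add, hr, hgf])).1).symm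
    · intro hb
      exact ⟨d, by rw [hgf, hb, zero_smul, zero_add]⟩
  have hfixL : ∀ s, g • L s = L s ↔ b * s ^ 2 + (a - d) * s - c = 0 := fun s => by
    show (planeAct hu h.m_ne C hC).smul g (mkPlane m (e + s • f) _ _) = _ ↔ _
    rw [smul_mkPlane hu, mkPlane_eq_iff]
    have himg : mat g.1 *ᵥ (e + s • f) = (a + s * b) • e + (c + s * d) • f := by
      rw [Matrix.mulVec_add, Matrix.mulVec_smul, hge, hgf]; module
    rw [himg]
    constructor
    · rintro ⟨r, hr⟩
      obtain ⟨h1, h2⟩ := hlin (x := r) (y := r * s) (by rw [← hr, smul_add, smul_smul])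
      linear_combination h2 - s * h1
    · intro h0
      refine ⟨a + s * b, ?_⟩
      rw [smul_add, smul_smul]
      congr 2
      linear_combination h0
  have hset : ∀ P₁ P₂ : Plane σ m, P₁ ≠ P₂ → (∀ P, g • P = P ↔ P = P₁ ∨ P = P₂) →
      Nat.card (MulAction.fixedBy (Plane σ m) g) = 2 := fun P₁ P₂ hne hiff => by
    rw [Nat.card_coe_set_eq, show MulAction.fixedBy (Plane σ m) g = {P₁, P₂} by
      ext P; simpa using hiff P, Set.ncard_pair hne]
  by_cases hb : b = 0
  · have had : a ≠ d := by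
      intro had
      have hc := hun h.hp.f_ne (a := a) (b := c) (by rw [hgf, hb, zero_smul, zero_add, had]) hge
      exact hg ⟨a, by rw [hge, hc, zero_smul, add_zero], by rw [hgf, hb, had, zero_smul, zero_add]⟩
    refine hset Linf (L (c / (a - d))) (hLne _).symm fun P => ?_
    rcases hcases P with rfl | ⟨s, rfl⟩
    · simp [hfixinf.2 hb]
    · rw [hfixL]
      constructor
      · intro h0
        right
        congr 1
        rw [eq_div_iff (sub_ne_zero.2 had)]
        rw [hb] at h0
        linear_combination h0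
      · rintro (h0 | h0)
        · exact absurd h0 (hLne s)
        · rw [hLinj h0, hb]; field_simp [sub_ne_zero.2 had]; ring
  · obtain ⟨s, hs⟩ := fixed_quadratic hu r1 r2 r3 hb
    set t := -(a - d) / b - s with ht
    have hbt : b * t = -(a - d) - b * s := by rw [ht]; field_simp
    have hne : s ≠ t := fun hst => by
      have hv : mat g.1 *ᵥ (e + s • f) = (a + s * b) • (e + s • f) := by
        rw [Matrix.mulVec_add, Matrix.mulVec_smul, hge, hgf]
        match_scalars
        · ring
        · linear_combination -hs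
      rw [← hst] at hbt
      refine hb (hun (hes0 s) hv (w := f) ?_)
      rw [hgf]
      match_scalars
      · ring
      · linear_combination -hbt
    refine hset (L s) (L t) (fun h0 => hne (hLinj h0)) fun P => ?_
    rcases hcases P with rfl | ⟨r, rfl⟩
    · simp [hfixinf, hb, (hLne s).symm, (hLne t).symm]
    · rw [hfixL]
      constructor
      · intro h0
        have h1 : b * ((r - s) * (r - t)) = 0 := by linear_combination h0 - hs + (s - r) * hbt
        rcases mul_eq_zero.1 ((mul_eq_zero.1 h1).resolve_left hb) with h2 | h2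
        · exact Or.inl (congrArg L (sub_eq_zero.1 h2))
        · exact Or.inr (congrArg L (sub_eq_zero.1 h2))
      · rintro (h0 | h0)
        · rw [hLinj h0]; exact hs
        · rw [hLinj h0]; linear_combination hs + (t - s) * hbt

/-- The isotropic lines of the plane. -/
theorem card_chord (h : Fr σ e m f) :
    Nat.card {P : Plane σ m // hB 3 σ P.1.rep P.1.rep = 0} = q + 1 := by
  classical
  haveI := finite_plane (σ := σ) m
  obtain ⟨q1, q2, q3, q4, q5, q6, q7, q8, q9⟩ := h.relations hu
  have hiso : ∀ {v : Vn 3 F} (hv0 : v ≠ 0) (hv : hB 3 σ m v = 0),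
      hB 3 σ (mkPlane m v hv0 hv).1.rep (mkPlane m v hv0 hv).1.rep = 0 ↔ hB 3 σ v v = 0 := fun hv0 hv => by
    obtain ⟨t, ht⟩ := Projectivization.exists_smul_eq_mk_rep F _ hv0
    show hB 3 σ (Projectivization.mk F _ hv0).rep (Projectivization.mk F _ hv0).rep = 0 ↔ _
    rw [← ht, Units.smul_def, smul_self (hu.isHerm 3), mul_eq_zero, or_iff_right]
    exact mul_ne_zero t.ne_zero ((map_ne_zero σ).2 t.ne_zero)
  have hes0 : ∀ s : F, e + s • f ≠ 0 := fun s h0 => by
    have := congrArg (hB 3 σ f) h0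
    simp [q4, q2] at this
  let Ψ : Option {s : F // s + σ s = 0} → {P : Plane σ m // hB 3 σ P.1.rep P.1.rep = 0} := fun o =>
    match o with
    | none => ⟨mkPlane m f h.hp.f_ne q8, (hiso _ _).2 q2⟩
    | some s => ⟨mkPlane m (e + s.1 • f) (hes0 s.1) (by rw [map_add, map_smul, q7, q8, smul_zero, add_zero]),
        (hiso _ _).2 (by
          simp only [map_add, map_smulₛₗ, LinearMap.add_apply, LinearMap.smul_apply, smul_eq_mul, RingHom.id_apply,
            q1, q2, q3, q4]
          linear_combination s.2)⟩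
  have hΨ : Function.Bijective Ψ := by
    constructor
    · intro o o' hoo
      have h0 := congrArg Subtype.val hoo
      rcases o with _ | s <;> rcases o' with _ | t
      · rfl
      · obtain ⟨r, hr⟩ := (Projectivization.mk_eq_mk_iff' F _ _ _ _).1 (congrArg Subtype.val h0)
        have h1 := congrArg (hB 3 σ f) hr
        simp [q2, q4] at h1
        rw [h1, zero_smul] at hr
        exact absurd hr.symm h.hp.f_ne
      · obtain ⟨r, hr⟩ := (Projectivization.mk_eq_mk_iff' F _ _ _ _).1 (congrArg Subtype.val h0)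
        have h1 := congrArg (hB 3 σ f) hr
        simp [q2, q4] at h1
      · obtain ⟨r, hr⟩ := (Projectivization.mk_eq_mk_iff' F _ _ _ _).1 (congrArg Subtype.val h0)
        have h1 := congrArg (hB 3 σ f) hr
        have h2 := congrArg (hB 3 σ e) hr
        simp [q1, q2, q3, q4] at h1 h2
        rw [h1, one_mul] at h2
        exact congrArg some (Subtype.ext h2.symm)
    · rintro ⟨P, hP⟩
      obtain ⟨v, hv0, hv, rfl⟩ := exists_mkPlane P
      rw [hiso] at hP
      have hrep := h.repr hu v
      rw [hv, zero_smul, add_zero] at hrep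
      by_cases h0 : hB 3 σ f v = 0
      · refine ⟨none, Subtype.ext ((mkPlane_eq_iff h.hp.f_ne q8 hv0 hv).2 ⟨(hB 3 σ e v)⁻¹, ?_⟩)⟩
        have hv' : v = hB 3 σ e v • f := by
          conv_lhs => rw [hrep, h0, zero_smul, zero_add]
        conv_lhs => arg 2; rw [hv']
        rw [smul_smul, inv_mul_cancel₀, one_smul]
        intro h1
        apply hv0
        rw [hrep, h0, h1]
        simp
      · set s := (hB 3 σ f v)⁻¹ * hB 3 σ e v with hs
        have hvs : v = hB 3 σ f v • (e + s • f) := by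
          conv_lhs => rw [hrep]
          rw [smul_add, smul_smul, hs, mul_inv_cancel_left₀ h0]
        have hss : s + σ s = 0 := by
          rw [hvs, smul_self (hu.isHerm 3), mul_eq_zero, or_iff_right (mul_ne_zero h0 ((map_ne_zero σ).2 h0))] at hP
          simp only [map_add, map_smulₛₗ, LinearMap.add_apply, LinearMap.smul_apply, smul_eq_mul, RingHom.id_apply,
            q1, q2, q3, q4] at hP
          linear_combination hP
        refine ⟨some ⟨s, hss⟩, Subtype.ext ((mkPlane_eq_iff (hes0 s)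
          (by rw [map_add, map_smul, q7, q8, smul_zero, add_zero]) hv0 hv).2 ⟨(hB 3 σ f v)⁻¹, ?_⟩)⟩
        conv_lhs => arg 2; rw [hvs]
        rw [smul_smul, inv_mul_cancel₀ h0, one_smul]
  rw [← Nat.card_congr (Equiv.ofBijective Ψ hΨ), Finite.card_option]
  congr 1
  obtain ⟨k, hk0, hk⟩ := skew_exists hu
  have hk' : σ k = -k := eq_neg_of_add_eq_zero_right hk
  rw [← hu.card_fix]
  refine Nat.card_congr ⟨fun s => ⟨s.1 / k, ?_⟩, fun t => ⟨t.1 * k, ?_⟩, fun s => Subtype.ext ?_,
    fun t => Subtype.ext ?_⟩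
  · show σ (s.1 / k) = s.1 / k
    rw [map_div₀, hk', eq_neg_of_add_eq_zero_right s.2, neg_div_neg_eq]
  · rw [map_mul, show σ t.1 = t.1 from t.2, hk']; ring
  · exact div_mul_cancel₀ _ hk0
  · exact mul_div_cancel_right₀ _ hk0

end Cfsg.Agent.MinIndexPSU3
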