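import Cfsg.Agent.MinIndexPSU3.Chord

/-!
The possible sizes of a subgroup transitive on a chord without transvections at its points.
-/

set_option autoImplicit false

namespace Cfsg.Agent.MinIndexPSU3

open AutPSU Matrix Classical.Herm

variable {q : ℕ} {F : Type*} [Field F] [Fintype F] {σ : F →+* F} (hu : UCtx σ q)
include hu

theorem q_cast : (q : F) = 0 := by
  obtain ⟨p, hp⟩ := CharP.exists F
  obtain ⟨k, hpp, hk⟩ := FiniteField.card F p
  have hFq : Fintype.card F = q ^ 2 := by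
    rw [← Nat.card_eq_fintype_card, card_eq_fix_sq hu.toIsInvol, hu.card_fix]
  rw [CharP.cast_eq_zero_iff F p]
  exact hpp.dvd_of_dvd_pow (show p ∣ q ^ 2 by rw [← hFq, hk]; exact dvd_pow_self p k.ne_zero)

variable {e m f : Vn 3 F}

theorem chord_cases (h : Fr σ e m f) (H : Subgroup (Su 3 F q))
    (hW : ∀ c : F, c + σ c = 0 → tr hu e c ∈ H → c = 0)
    (htr : ∀ v : Vn 3 F, v ≠ 0 → hB 3 σ v v = 0 → hB 3 σ m v = 0 →
      ∃ g ∈ H, g ∈ lineStab m ∧ ∃ a : F, mat g *ᵥ e = a • v)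
    (A : Subgroup Fˣ) (hA : ∀ a : Fˣ, a ∈ A ↔ ∃ g ∈ H, g ∈ lineStab m ∧ mat g *ᵥ e = (a : F) • e)
    (c : ℕ) (hc : Nat.card A = c * Nat.card ↥(A ⊓ (normHom σ).ker)) (hc3 : 3 ≤ c) :
    (c = 3 ∧ (q + 1 = 4 ∨ q + 1 = 8 ∨ q + 1 = 20)) ∨ (c = 4 ∧ q + 1 = 6) ∨ (c = 5 ∧ q + 1 = 12) := by
  classical
  obtain ⟨q1, q2, q3, q4, q5, q6, q7, q8, q9⟩ := h.relations hu
  set C : Subgroup (Su 3 F q) := H ⊓ lineStab m with hCdef
  have hC : C ≤ lineStab m := inf_le_right
  let : MulAction C (Plane σ m) := planeAct hu h.m_ne C hC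
  haveI := finite_plane (σ := σ) m
  let x : Plane σ m := mkPlane m e h.hp.e_ne q7
  have hsm : ∀ (g : C) {v : Vn 3 F} (hv0 : v ≠ 0) (hv : hB 3 σ m v = 0), g • mkPlane m v hv0 hv =
      mkPlane m (mat g.1 *ᵥ v) (mat_mulVec_ne_zero g.1 hv0) (plane_invariant hu h.m_ne (hC g.2) hv) :=
    fun g v hv0 hv => smul_mkPlane hu h.m_ne C hC g hv0 hv
  have hmem : ∀ g : C, g ∈ MulAction.stabilizer C x ↔ ∃ a : F, mat g.1 *ᵥ e = a • e := fun g => by
    rw [MulAction.mem_stabilizer_iff, hsm, mkPlane_eq_iff]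
    exact ⟨fun ⟨a, ha⟩ => ⟨a, ha.symm⟩, fun ⟨a, ha⟩ => ⟨a, ha.symm⟩⟩
  let ι : MulAction.stabilizer C x →* lineStab (q := q) e :=
    MonoidHom.mk' (fun g => ⟨g.1.1, (hmem g.1).1 g.2⟩) fun _ _ => rfl
  let φ : MulAction.stabilizer C x →* Fˣ := (lam h.hp.e_ne).comp ι
  have hφe : ∀ g, mat g.1.1 *ᵥ e = (φ g : F) • e := fun g => lam_spec h.hp.e_ne (ι g)
  have hinj : Function.Injective φ := by
    refine (injective_iff_map_eq_one φ).2 fun g hg => ?_
    have hge : mat g.1.1 *ᵥ e = e := by rw [hφe g, hg, Units.val_one, one_smul]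
    obtain ⟨hadm, hs⟩ := h.flag_coord hu ((h.mem_flag_iff hu).2 hge)
    set α := hB 3 σ m (mat g.1.1 *ᵥ f)
    set d := hB 3 σ f (mat g.1.1 *ᵥ f)
    obtain ⟨μ, hμ⟩ := hC g.1.2
    rw [hs, h.uE_m hu hadm] at hμ
    have h1 := congrArg (hB 3 σ f) hμ
    simp only [map_add, map_smul, smul_eq_mul, q4, q6, mul_one, add_zero, mul_zero, neg_eq_zero] at h1
    have hα : α = 0 := (map_eq_zero σ).1 h1
    rw [hα] at hs hadm
    rw [h.uE_eq_tr hu] at hs
    have hd : d = 0 := hW d (adm_zero.1 hadm) (hs ▸ (Subgroup.mem_inf.1 g.1.2).1)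
    rw [hd, show tr hu e (0 : F) = 1 from eS_zero hu q1] at hs
    exact Subtype.ext (Subtype.ext hs)
  have hrange : φ.range = A := by
    ext a
    rw [hA]
    constructor
    · rintro ⟨g, rfl⟩
      exact ⟨g.1.1, (Subgroup.mem_inf.1 g.1.2).1, hC g.1.2, hφe g⟩
    · rintro ⟨g, hgH, hgm, hge⟩
      refine ⟨⟨⟨g, Subgroup.mem_inf.2 ⟨hgH, hgm⟩⟩, (hmem _).2 ⟨_, hge⟩⟩, Units.ext ?_⟩
      exact lam_eq h.hp.e_ne _ hge
  have hstabA : Nat.card (MulAction.stabilizer C x) = Nat.card A := by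
    rw [← hrange]; exact Nat.card_congr (MonoidHom.ofInjective hinj).toEquiv
  have horb : Nat.card (MulAction.orbit C x) = q + 1 := by
    rw [← card_chord hu h]
    refine Nat.card_congr (Equiv.subtypeEquivRight fun P => ?_)
    obtain ⟨v, hv0, hv, rfl⟩ := exists_mkPlane P
    obtain ⟨t, ht⟩ := Projectivization.exists_smul_eq_mk_rep F _ hv0
    have hiso : hB 3 σ (mkPlane m v hv0 hv).1.rep (mkPlane m v hv0 hv).1.rep = 0 ↔ hB 3 σ v v = 0 := by
      show hB 3 σ (Projectivization.mk F _ hv0).rep (Projectivization.mk F _ hv0).rep = 0 ↔ _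
      rw [← ht, Units.smul_def, smul_self (hu.isHerm 3), mul_eq_zero, or_iff_right]
      exact mul_ne_zero t.ne_zero ((map_ne_zero σ).2 t.ne_zero)
    rw [hiso, MulAction.mem_orbit_iff]
    constructor
    · rintro ⟨g, hg⟩
      rw [hsm, mkPlane_eq_iff] at hg
      obtain ⟨a, ha⟩ := hg
      have h0 := hB_mat hu g.1 e e
      rw [← ha, q1, smul_self (hu.isHerm 3), mul_eq_zero] at h0
      refine h0.resolve_left (mul_ne_zero ?_ ((map_ne_zero σ).2 ?_)) <;>
        exact fun ha0 => mat_mulVec_ne_zero g.1 h.hp.e_ne (by rw [← ha, ha0, zero_smul])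
    · intro hvv
      obtain ⟨g, hgH, hgm, a, hga⟩ := htr v hv0 hvv hv
      exact ⟨⟨g, Subgroup.mem_inf.2 ⟨hgH, hgm⟩⟩, by rw [hsm, mkPlane_eq_iff]; exact ⟨a, hga.symm⟩⟩
  have hCcard : Nat.card C = (q + 1) * Nat.card A := by
    rw [← horb, ← hstabA]
    have : Fintype C := Fintype.ofFinite C
    have : Fintype (MulAction.orbit C x) := Fintype.ofFinite _
    have : Fintype (MulAction.stabilizer C x) := Fintype.ofFinite _
    simp only [Nat.card_eq_fintype_card]
    exact (MulAction.card_orbit_mul_card_stabilizer_eq_card_group C x).symm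
  have hp : (Nat.card C : F) ≠ 0 := by
    obtain ⟨k, hk⟩ := A.card_subgroup_dvd_card
    rw [Nat.card_units, card_F hu] at hk
    intro h0
    rw [hCcard] at h0
    push_cast at h0
    rw [q_cast hu, zero_add, one_mul] at h0
    have h1 : ((q ^ 2 - 1 : ℕ) : F) = 0 := by rw [hk]; push_cast; rw [h0, zero_mul]
    rw [Nat.cast_sub (Nat.one_le_pow _ _ (by have := hu.one_lt; omega)), Nat.cast_pow, q_cast hu] at h1
    simp at h1
  have hgN : ∀ g : C, g.1 ^ Nat.card C = 1 := fun g => by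
    rw [← SubgroupClass.coe_pow, pow_card_eq_one', Subgroup.coe_one]
  -- the kernel on the plane
  let K : Subgroup C :=
    { carrier := {g | ∃ a : F, mat g.1 *ᵥ e = a • e ∧ mat g.1 *ᵥ f = a • f}
      mul_mem' := fun {g g'} ⟨a, ha, ha'⟩ ⟨b, hb, hb'⟩ => ⟨a * b,
        by rw [Subgroup.coe_mul, mat_mul_mulVec, hb, Matrix.mulVec_smul, ha, smul_smul, mul_comm],
        by rw [Subgroup.coe_mul, mat_mul_mulVec, hb', Matrix.mulVec_smul, ha', smul_smul, mul_comm]⟩
      one_mem' := ⟨1, by simp [mat_one_mulVec], by simp [mat_one_mulVec]⟩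
      inv_mem' := fun {g} ⟨a, ha, ha'⟩ => by
        have ha0 : a ≠ 0 := fun h0 => mat_mulVec_ne_zero g.1 h.hp.e_ne (by rw [ha, h0, zero_smul])
        have key : ∀ {v : Vn 3 F}, mat g.1 *ᵥ v = a • v → mat (g⁻¹).1 *ᵥ v = a⁻¹ • v := fun {v} hv => by
          have h1 := congrArg (mat g.1⁻¹ *ᵥ ·) hv
          simp only [mat_inv_mulVec, Matrix.mulVec_smul] at h1
          rw [Subgroup.coe_inv]
          conv_rhs => rw [h1]
          rw [smul_smul, inv_mul_cancel₀ ha0, one_smul]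
        exact ⟨a⁻¹, key ha, key ha'⟩ }
  have hKle : K ≤ MulAction.stabilizer C x := fun g ⟨a, ha, _⟩ => (hmem g).2 ⟨a, ha⟩
  have hKcard : Nat.card K = Nat.card ↥(A ⊓ (normHom σ).ker) := by
    have hmap : (K.subgroupOf (MulAction.stabilizer C x)).map φ = A ⊓ (normHom σ).ker := by
      ext a
      rw [Subgroup.mem_map, Subgroup.mem_inf]
      constructor
      · rintro ⟨g, hg, rfl⟩
        obtain ⟨r, hr, hr'⟩ := (Subgroup.mem_subgroupOf.1 hg : g.1 ∈ K)
        refine ⟨hrange ▸ ⟨g, rfl⟩, MonoidHom.mem_ker.2 (Units.ext ?_)⟩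
        rw [normHom_coe, show (φ g : F) = r from lam_eq h.hp.e_ne (ι g) hr, Units.val_one]
        have h0 := hB_mat hu g.1.1 e f
        rw [hr, hr'] at h0
        simp only [map_smulₛₗ, LinearMap.smul_apply, smul_eq_mul, RingHom.id_apply, q3, mul_one] at h0
        linear_combination h0
      · rintro ⟨haA, haN⟩
        rw [← hrange] at haA
        obtain ⟨g, rfl⟩ := haA
        have hN : (φ g : F) * σ (φ g : F) = 1 := congrArg Units.val haN
        obtain ⟨a, b, cc, d, hge, hgf, -, -, r3⟩ := plane_coords hu h (hC g.1.2)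
        have he' := hge
        rw [hφe g] at he'
        have h1 := congrArg (hB 3 σ f) he'
        have h2 := congrArg (hB 3 σ e) he'
        simp only [map_add, map_smul, smul_eq_mul, q1, q2, q3, q4, mul_zero, mul_one, zero_add, add_zero] at h1 h2
        subst h1
        rw [← h2, map_zero, zero_mul, add_zero] at r3
        have hd : d = (φ g : F) := by
          have : σ (φ g : F) ≠ 0 := (map_ne_zero σ).2 (φ g).ne_zero
          exact mul_left_cancel₀ this (r3.trans (hN.symm.trans (mul_comm _ _)))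
        rw [hd, add_comm] at hgf
        have hb : b = 0 := (mul_eq_zero.1 (unip h.hp.e_ne (hφe g) hgf (hgN g.1))).resolve_left hp
        rw [hb, zero_smul, add_zero] at hgf
        exact ⟨g, Subgroup.mem_subgroupOf.2 ⟨_, hφe g, hgf⟩, rfl⟩
    rw [← hmap, Subgroup.card_map_of_injective hinj]
    exact (Nat.card_congr (Subgroup.subgroupOfEquivOfLe hKle).toEquiv).symm
  have hK : ∀ g ∈ K, ∀ P : Plane σ m, g • P = P := fun g ⟨a, ha, ha'⟩ P => by
    obtain ⟨v, hv0, hv, rfl⟩ := exists_mkPlane P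
    rw [hsm, mkPlane_eq_iff]
    refine ⟨a, ?_⟩
    rw [h.repr hu v, hv, zero_smul, add_zero, Matrix.mulVec_add, Matrix.mulVec_smul, Matrix.mulVec_smul, ha, ha']
    module
  have h2 : ∀ g : C, g ∉ K → Nat.card (MulAction.fixedBy (Plane σ m) g) = 2 := fun g hg =>
    card_fixed hu h hC hp g hg
  have heq := orbit_equation K hK h2 x ((q + 1) * c) c
    (by rw [hCcard, hc, hKcard, mul_assoc]) (by rw [hstabA, hc, hKcard]) hc3
  have hq1 := hu.one_lt
  rcases heq with h1 | h1 | ⟨rfl, h1⟩ | ⟨rfl, h1⟩ | ⟨rfl, h1⟩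
  · exfalso
    have := Nat.mul_le_mul_right c (show 3 ≤ q + 1 by omega); omega
  · exfalso
    have := Nat.mul_le_mul_right c (show 3 ≤ q + 1 by omega); omega
  all_goals omega

end Cfsg.Agent.MinIndexPSU3
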