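import Cfsg.Agent.MinIndexPSU3.Invol
import Cfsg.Agent.Classical.UnitaryGroup

/-!
Transvections in a transitive subgroup, even characteristic.
-/

set_option autoImplicit false

namespace Cfsg.Agent.MinIndexPSU3

open AutPSU Matrix Classical.Herm

variable {q : ℕ} {F : Type*} [Field F] [Fintype F] {σ : F →+* F} (hu : UCtx σ q)
include hu

/-- Orthogonal isotropic vectors are proportional. -/
theorem orth_prop {v w : Vn 3 F} (hv0 : v ≠ 0) (hv : hB 3 σ v v = 0) (hw : hB 3 σ w w = 0)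
    (hvw : hB 3 σ v w = 0) : ∃ a : F, w = a • v := by
  by_cases hw0 : w = 0
  · exact ⟨0, by rw [hw0, zero_smul]⟩
  by_contra hne
  obtain ⟨m, f, h⟩ := exists_fr hu hv0 hv
  obtain ⟨s, hs, a, -, hsf⟩ := h.other hu hw0 hw hne
  have h1 := hB_mat hu s v f
  rw [hs.1, hsf, map_smul, hvw, smul_zero, h.hp.ef] at h1
  exact zero_ne_one h1

/-- Commuting with a transvection means fixing its centre. -/
theorem fix_of_commute_tr {g : Su 3 F q} {v : Vn 3 F} (hv0 : v ≠ 0) (hv : hB 3 σ v v = 0) {c : F}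
    (hc : c + σ c = 0) (hc0 : c ≠ 0) (hcomm : g * tr hu v c * g⁻¹ = tr hu v c) : g ∈ lineStab v := by
  rw [conj_tr hu g hv hc] at hcomm
  exact mem_lineStab.2 (tr_inj hu hv0 hv (by rw [hB_mat hu]; exact hv) hc hc hc0 hcomm.symm)

/-- The parameter of a conjugate transvection at the same point. -/
theorem conj_tr_param {g : Su 3 F q} {v : Vn 3 F} (hv0 : v ≠ 0) (hv : hB 3 σ v v = 0) {c d : F}
    (hc : c + σ c = 0) (hd : d + σ d = 0) (hd0 : d ≠ 0) (h : g * tr hu v c * g⁻¹ = tr hu v d) :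
    ∃ a : F, mat g *ᵥ v = a • v ∧ d = a * σ a * c := by
  rw [conj_tr hu g hv hc] at h
  obtain ⟨a, ha⟩ := tr_inj hu hv0 hv (by rw [hB_mat hu]; exact hv) hd hc hd0 h.symm
  refine ⟨a, ha, ?_⟩
  rw [ha, tr_smul hu hv hc] at h
  obtain ⟨m, f, hfr⟩ := exists_fr hu hv0 hv
  have hN : a * σ a * c + σ (a * σ a * c) = 0 := by
    rw [map_mul, map_mul, hu.invol]; linear_combination a * σ a * hc
  rw [← hfr.uE_eq_tr hu, ← hfr.uE_eq_tr hu] at h
  exact (hfr.uE_inj hu (adm_zero.2 hN) (adm_zero.2 hd) h).2.symm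

/-- Every point of a transitive group containing a transvection carries one. -/
theorem transfer_tr {H : Subgroup (Su 3 F q)} (hH : Big σ H) {e m f : Vn 3 F} (h : Fr σ e m f) {c : F}
    (hc : c ∈ wGrp hu h H) (hc0 : c ≠ 0) {v : Vn 3 F} (hv0 : v ≠ 0) (hv : hB 3 σ v v = 0) :
    ∃ d : F, d ≠ 0 ∧ d + σ d = 0 ∧ tr hu v d ∈ H := by
  obtain ⟨g, hg, a, hga⟩ := hH.trans e v h.hp.e_ne h.hp.ee hv0 hv
  have ha : a ≠ 0 := smul_ne_zero_of_eq hu h.hp.e_ne hga
  refine ⟨a * σ a * c, mul_ne_zero (mul_ne_zero ha ((map_ne_zero σ).2 ha)) hc0, ?_, ?_⟩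
  · rw [map_mul, map_mul, hu.invol]; linear_combination a * σ a * hc.1
  · rw [← tr_smul hu hv hc.1, ← hga, ← conj_tr hu g h.hp.ee hc.1]
    exact H.mul_mem (H.mul_mem hg hc.2) (H.inv_mem hg)

variable [CharP F 2]

theorem q_even : Even q := even_iff_two_dvd.2 ((CharP.cast_eq_zero_iff F 2 q).1 (by
  obtain ⟨k, hpp, hk⟩ := FiniteField.card F 2
  have hFq : Fintype.card F = q ^ 2 := by
    rw [← Nat.card_eq_fintype_card, card_eq_fix_sq hu.toIsInvol, hu.card_fix]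
  rw [CharP.cast_eq_zero_iff F 2]
  exact hpp.dvd_of_dvd_pow (show 2 ∣ q ^ 2 by rw [← hFq, hk]; exact dvd_pow_self 2 k.ne_zero)))

/-- In even characteristic every involution is a transvection. -/
theorem invol_is_tr {g : Su 3 F q} (hg : g * g = 1) (hne : g ≠ 1) :
    ∃ (v : Vn 3 F) (d : F), v ≠ 0 ∧ hB 3 σ v v = 0 ∧ d + σ d = 0 ∧ d ≠ 0 ∧ g = tr hu v d := by
  haveI : Fact (Nat.Prime 2) := ⟨Nat.prime_two⟩
  have hord : orderOf g = 2 := orderOf_eq_prime (by rw [pow_two, hg]) hne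
  have hP : IsPGroup 2 (Subgroup.zpowers g) := IsPGroup.of_card (n := 1) (by rw [Nat.card_zpowers, hord, pow_one])
  have hnd : ¬ 2 ∣ Nat.card (Pts hu) := by
    rw [card_pts hu, ← even_iff_two_dvd, Nat.even_add_one, not_not, Nat.even_pow]
    exact ⟨q_even hu, by omega⟩
  obtain ⟨P, hP'⟩ := hP.nonempty_fixed_point_of_prime_not_dvd_card (Pts hu) hnd
  obtain ⟨v, hv0, hv, rfl⟩ := exists_mkPt hu P
  have hfix : g • mkPt hu v hv0 hv = mkPt hu v hv0 hv :=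
    hP' ⟨g, Subgroup.mem_zpowers g⟩
  have hgv : g ∈ lineStab v := by
    rw [← stabilizer_mkPt hu hv0 hv]; exact MulAction.mem_stabilizer_iff.2 hfix
  obtain ⟨a, ha⟩ := hgv
  have ha1 : a = 1 := by
    have h1 : v = (a * a) • v := by
      conv_lhs => rw [← mat_one_mulVec (q := q) v, ← hg, mat_mul_mulVec, ha, Matrix.mulVec_smul, ha, smul_smul]
    have h2 : a * a = 1 := smul_left_injective F hv0 (show (a * a) • v = (1 : F) • v by rw [← h1, one_smul])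
    rcases mul_self_eq_one_iff.1 h2 with h3 | h3
    · exact h3
    · rw [h3, CharTwo.neg_eq]
  rw [ha1, one_smul] at ha
  obtain ⟨m, f, h⟩ := exists_fr hu hv0 hv
  obtain ⟨hadm, hs⟩ := h.flag_coord hu ((h.mem_flag_iff hu).2 ha)
  set α := hB 3 σ m (mat g *ᵥ f)
  set d := hB 3 σ f (mat g *ᵥ f)
  obtain ⟨hadm2, h4⟩ := h.uE_mul hu hadm hadm
  rw [← hs, hg] at h4
  have h5 := ((h.uE_eq_one hu hadm2).1 h4.symm).2
  rw [CharTwo.add_self_eq_zero, zero_sub, neg_eq_zero, mul_eq_zero, map_eq_zero, or_self] at h5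
  rw [h5] at hs hadm
  rw [h.uE_eq_tr hu] at hs
  exact ⟨v, d, hv0, hv, adm_zero.1 hadm, fun hd => hne (by rw [hs, hd]; exact eS_zero hu hv), hs⟩

/-- Transvections with different centres are conjugate in any group containing them. -/
theorem tr_conj_of_ne {H : Subgroup (Su 3 F q)} {v w : Vn 3 F} {c d : F} (hv0 : v ≠ 0) (hw0 : w ≠ 0)
    (hv : hB 3 σ v v = 0) (hw : hB 3 σ w w = 0) (hc : c + σ c = 0) (hd : d + σ d = 0) (hc0 : c ≠ 0)
    (hd0 : d ≠ 0) (hvw : ¬ ∃ a : F, w = a • v) (hcH : tr hu v c ∈ H) (hdH : tr hu w d ∈ H) :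
    ∃ r ∈ H, r * tr hu v c * r⁻¹ = tr hu w d := by
  set t := tr hu v c with ht_def
  set t' := tr hu w d with ht'_def
  have ht : t * t = 1 := by
    rw [ht_def, tr_mul hu hv hc hc, CharTwo.add_self_eq_zero]; exact eS_zero hu hv
  have ht' : t' * t' = 1 := by
    rw [ht'_def, tr_mul hu hw hd hd, CharTwo.add_self_eq_zero]; exact eS_zero hu hw
  have hti : t⁻¹ = t := inv_eq_of_mul_eq_one_right ht
  have ht'i : t'⁻¹ = t' := inv_eq_of_mul_eq_one_right ht'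
  set x := t' * t with hx
  have hxt : x * t = t' := by rw [hx, mul_assoc, ht, mul_one]
  have hinv : t * x * t = x⁻¹ := by rw [mul_assoc, hxt, hx, _root_.mul_inv_rev, hti, ht'i]
  have hodd : Odd (orderOf x) := by
    by_contra hev
    rw [Nat.not_odd_iff_even] at hev
    obtain ⟨k, hk⟩ := hev
    have hpos : 0 < orderOf x := orderOf_pos x
    set z := x ^ k with hz
    have hzz : z * z = 1 := by rw [hz, ← pow_add, ← hk, pow_orderOf_eq_one]
    have hz1 : z ≠ 1 := fun h0 => by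
      have := Nat.le_of_dvd (by omega) (orderOf_dvd_of_pow_eq_one h0)
      omega
    have hzi : z⁻¹ = z := inv_eq_of_mul_eq_one_right hzz
    have hzt : t * z * t⁻¹ = z := by rw [hz, ← conj_pow, hti, hinv, inv_pow, ← hz, hzi]
    have hzt' : t' * z * t'⁻¹ = z := by
      have hxz : x * z = z * x := (Commute.self_pow x k).eq
      calc t' * z * t'⁻¹ = x * (t * z * t⁻¹) * x⁻¹ := by
            rw [← hxt, _root_.mul_inv_rev]; simp only [mul_assoc]
        _ = z := by rw [hzt, hxz, mul_inv_cancel_right]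
    obtain ⟨u, b, hu0, huu, hb, hb0, hzu⟩ := invol_is_tr hu hzz hz1
    rw [hzu] at hzt hzt'
    have h1 : hB 3 σ v u = 0 := (tr_commute_iff hu hv0 hu0 hv huu hc hb hc0 hb0).1
      (mul_inv_eq_iff_eq_mul.1 hzt)
    have h2 : hB 3 σ w u = 0 := (tr_commute_iff hu hw0 hu0 hw huu hd hb hd0 hb0).1
      (mul_inv_eq_iff_eq_mul.1 hzt')
    obtain ⟨a, rfl⟩ := orth_prop hu hv0 hv huu h1
    have ha : a ≠ 0 := fun h0 => hu0 (by rw [h0, zero_smul])
    rw [map_smul, smul_eq_mul, mul_eq_zero] at h2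
    exact hvw (orth_prop hu hv0 hv hw ((eq_zero_comm (hu.isHerm 3)).1 (h2.resolve_left ha)))
  exact ⟨_, H.pow_mem (H.mul_mem hdH hcH) _, (dihedral_root hodd (pow_orderOf_eq_one x) ht hinv).trans hxt⟩

/-- The norms of the torus image are transitive on the parameters. -/
theorem wGrp_orbit {H : Subgroup (Su 3 F q)} (hH : Big σ H) {e m f : Vn 3 F} (h : Fr σ e m f) {c d : F}
    (hc : c ∈ wGrp hu h H) (hd : d ∈ wGrp hu h H) (hc0 : c ≠ 0) (hd0 : d ≠ 0) :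
    ∃ a : Fˣ, a ∈ torA h H ∧ d = (a : F) * σ a * c := by
  obtain ⟨b, hb0, hb, hbH⟩ := transfer_tr hu hH h hc hc0 h.hp.f_ne h.hp.ff
  have hef : ¬ ∃ a : F, f = a • e := fun ⟨a, ha⟩ => by
    have := h.hp.ef
    rw [ha, map_smul, h.hp.ee, smul_zero] at this
    exact zero_ne_one this
  obtain ⟨r, hr, hr'⟩ := tr_conj_of_ne hu h.hp.e_ne h.hp.f_ne h.hp.ee h.hp.ff hc.1 hb hc0 hb0 hef hc.2 hbH
  obtain ⟨s, hs, hs'⟩ := tr_conj_of_ne hu h.hp.e_ne h.hp.f_ne h.hp.ee h.hp.ff hd.1 hb hd0 hb0 hef hd.2 hbH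
  have hg : (s⁻¹ * r) * tr hu e c * (s⁻¹ * r)⁻¹ = tr hu e d :=
    calc _ = s⁻¹ * (r * tr hu e c * r⁻¹) * s := by simp only [_root_.mul_inv_rev, inv_inv, mul_assoc]
      _ = s⁻¹ * (s * tr hu e d * s⁻¹) * s := by rw [hr', hs']
      _ = _ := by group
  obtain ⟨a, ha, had⟩ := conj_tr_param hu h.hp.e_ne h.hp.ee hc.1 hd.1 hd0 hg
  have ha0 : a ≠ 0 := smul_ne_zero_of_eq hu h.hp.e_ne ha
  exact ⟨Units.mk0 a ha0, (mem_torA hu h H).2 ⟨_, H.mul_mem (H.inv_mem hs) hr, ha⟩, had⟩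

end Cfsg.Agent.MinIndexPSU3
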