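import Cfsg.Agent.MinIndexPSU3.EvenBase

/-!
The field of a transitive subgroup containing a transvection, even characteristic, and the resulting bounds.
-/

set_option autoImplicit false

namespace Cfsg.Agent.MinIndexPSU3

open AutPSU Matrix Classical.Herm

variable {q : ℕ} {F : Type*} [Field F] [Fintype F] {σ : F →+* F} (hu : UCtx σ q)
include hu

/-- The map a ↦ σ(a)²/a has at most three elements in its kernel. -/
theorem card_tau_le (A : Subgroup Fˣ) (S : Set F) (h0 : (0 : F) ∈ S)
    (hS : ∀ a : Fˣ, a ∈ A → σ (a : F) * σ a / a ∈ S) : Nat.card A ≤ 3 * (S.ncard - 1) := by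
  classical
  let τ : Fˣ →* Fˣ := (Units.map σ.toMonoidHom) * (Units.map σ.toMonoidHom) * (MonoidHom.id Fˣ)⁻¹
  have hτ : ∀ l : Fˣ, (τ l : F) = σ l * σ l / l := fun l => by simp [τ, div_eq_mul_inv]
  let ψ := τ.comp A.subtype
  have hker : Nat.card ψ.ker ≤ 3 := by
    have hsub : ∀ l : ψ.ker, ((l.1.1 : Fˣ) : F) ∈ (Polynomial.nthRootsFinset 3 (1 : F)) := fun l => by
      have h1 : σ (l.1.1 : F) * σ l.1.1 / l.1.1 = 1 := by rw [← hτ]; exact congrArg Units.val l.2
      rw [div_eq_one_iff_eq l.1.1.ne_zero] at h1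
      have h2 := congrArg σ h1
      rw [map_mul, hu.invol] at h2
      rw [Polynomial.mem_nthRootsFinset (by norm_num : 0 < 3)]
      refine mul_left_cancel₀ l.1.1.ne_zero ?_
      rw [mul_one]
      calc ((l.1.1 : Fˣ) : F) * (l.1.1 : Fˣ) ^ 3
          = ((l.1.1 : Fˣ) : F) * (l.1.1 : Fˣ) * (((l.1.1 : Fˣ) : F) * (l.1.1 : Fˣ)) := by ring
        _ = σ (l.1.1 : Fˣ) * σ (l.1.1 : Fˣ) := by rw [h2]
        _ = _ := h1
    calc Nat.card ψ.ker ≤ Nat.card (Polynomial.nthRootsFinset 3 (1 : F)) :=
          Nat.card_le_card_of_injective (fun l => ⟨_, hsub l⟩)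
            fun a b h => Subtype.ext (Subtype.ext (Units.ext (congrArg Subtype.val h)))
      _ ≤ 3 := by
          rw [Nat.card_eq_finsetCard, Polynomial.nthRootsFinset_def]
          exact (Multiset.toFinset_card_le _).trans (Polynomial.card_nthRoots 3 1)
  have hrange : Nat.card ψ.range ≤ (S \ {0}).ncard := by
    rw [← Nat.card_coe_set_eq]
    refine Nat.card_le_card_of_injective (β := ↥(S \ {0})) (fun x => ⟨((x.1 : Fˣ) : F), ?_⟩)
      fun x y hxy => Subtype.ext (Units.ext (congrArg (Subtype.val : ↥(S \ {0}) → F) hxy))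
    obtain ⟨l, hl⟩ := x.2
    exact ⟨by rw [← hl, MonoidHom.comp_apply, hτ]; exact hS _ l.2, x.1.ne_zero⟩
  have h1 := ψ.ker.index_mul_card
  rw [Subgroup.index_ker] at h1
  rw [← Set.ncard_sdiff_singleton_of_mem h0, ← h1, mul_comm]
  exact Nat.mul_le_mul hker hrange

omit hu [Fintype F] in
/-- The roots of x^N = x. -/
theorem ncard_pow_fix [Finite F] {N : ℕ} (hN : 1 < N) : ({x : F | x ^ N = x}).ncard ≤ N := by
  classical
  have hP0 := FiniteField.X_pow_card_sub_X_ne_zero F (p := N) hN
  calc ({x : F | x ^ N = x}).ncard ≤ ((Polynomial.X ^ N - Polynomial.X : Polynomial F).roots.toFinset : Set F).ncard := by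
        refine Set.ncard_le_ncard (fun x hx => ?_) (Set.toFinite _)
        simp only [Finset.mem_coe, Multiset.mem_toFinset, Polynomial.mem_roots hP0]
        simp [Polynomial.IsRoot, show x ^ N = x from hx]
    _ ≤ N := by
        rw [Set.ncard_coe_finset]
        exact ((Multiset.toFinset_card_le _).trans (Polynomial.card_roots' _)).trans
          (FiniteField.X_pow_card_sub_X_natDegree_eq F hN).le

/-- The bounds obtained from the field of the transvection parameters. -/
structure FieldData (hu : UCtx σ q) {e m f : Vn 3 F} (h : Fr σ e m f) (H : Subgroup (Su 3 F q)) (w r : ℕ) :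
    Prop where
  two_le : 2 ≤ w
  q_eq : q = w ^ r
  card_w : Nat.card (wGrp hu h H) = w
  card_a : Nat.card (torA h H) ≤ (q + 1) * (w - 1)
  bound : ∀ α ∈ vGrp hu h H, α ≠ 0 → ∃ S : Set F, (0 : F) ∈ S ∧ S.ncard ≤ (if Even r then w else w * w) ∧
    Nat.card (vGrp hu h H) ≤ S.ncard ∧ ∀ a : Fˣ, a ∈ torA h H → σ (a : F) * σ a / a ∈ S

theorem exists_fieldData [CharP F 2] {H : Subgroup (Su 3 F q)} (hH : Big σ H) {e m f : Vn 3 F}
    (h : Fr σ e m f) {w0 : F} (hw0 : w0 ∈ wGrp hu h H) (hw00 : w0 ≠ 0) :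
    ∃ w r : ℕ, FieldData hu h H w r := by
  classical
  set W := wGrp hu h H with hW
  let K : Subfield F :=
    { carrier := {k | σ k = k ∧ ∀ c ∈ W, k * c ∈ W}
      one_mem' := ⟨map_one σ, fun c hc => by rwa [one_mul]⟩
      mul_mem' := fun {a b} ha hb => ⟨by rw [map_mul, ha.1, hb.1], fun c hc => by
        rw [mul_assoc]; exact ha.2 _ (hb.2 c hc)⟩
      zero_mem' := ⟨map_zero σ, fun c _ => by rw [zero_mul]; exact W.zero_mem⟩
      add_mem' := fun {a b} ha hb => ⟨by rw [map_add, ha.1, hb.1], fun c hc => by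
        rw [add_mul]; exact W.add_mem (ha.2 c hc) (hb.2 c hc)⟩
      neg_mem' := fun {a} ha => ⟨by rw [map_neg, ha.1], fun c hc => by
        rw [neg_mul]; exact W.neg_mem (ha.2 c hc)⟩
      inv_mem' := fun a ha => by
        by_cases ha0 : a = 0
        · rw [ha0, _root_.inv_zero]; exact ⟨map_zero σ, fun c _ => by rw [zero_mul]; exact W.zero_mem⟩
        refine ⟨by rw [map_inv₀, ha.1], fun c hc => ?_⟩
        let φ : W → W := fun x => ⟨a * x.1, ha.2 _ x.2⟩
        have hφ : Function.Injective φ := fun x y hxy =>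
          Subtype.ext (mul_left_cancel₀ ha0 (congrArg Subtype.val hxy))
        obtain ⟨x, hx⟩ := Finite.injective_iff_surjective.1 hφ ⟨c, hc⟩
        have hx' : a * x.1 = c := congrArg Subtype.val hx
        rw [← hx', ← mul_assoc, inv_mul_cancel₀ ha0, one_mul]
        exact x.2 }
  have hmemK : ∀ {k : F}, k ∈ K ↔ σ k = k ∧ ∀ c ∈ W, k * c ∈ W := Iff.rfl
  have hNK : ∀ a : Fˣ, a ∈ torA h H → (a : F) * σ a ∈ K := fun a ha =>
    hmemK.2 ⟨by rw [map_mul, hu.invol, mul_comm], (torus_invariant hu h H ha).1⟩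
  have hWK : ∀ c ∈ W, ∃ k ∈ K, c = k * w0 := fun c hc => by
    by_cases hc0 : c = 0
    · exact ⟨0, K.zero_mem, by rw [hc0, zero_mul]⟩
    · obtain ⟨a, ha, hac⟩ := wGrp_orbit hu hH h hw0 hc hw00 hc0
      exact ⟨_, hNK a ha, hac⟩
  let eKW : K ≃ W := Equiv.ofBijective (fun k => (⟨k.1 * w0, (hmemK.1 k.2).2 _ hw0⟩ : W))
    ⟨fun x y hxy => Subtype.ext (mul_right_cancel₀ hw00 (congrArg Subtype.val hxy)), fun c => by
      obtain ⟨k, hk, hc⟩ := hWK c.1 c.2
      exact ⟨⟨k, hk⟩, Subtype.ext hc.symm⟩⟩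
  set w := Nat.card K with hw
  have hw2 : 2 ≤ w := Finite.one_lt_card
  have hKfix : ∀ x ∈ K, x ^ w = x := fun x hx => by
    haveI : Fintype K := Fintype.ofFinite K
    have := congrArg Subtype.val (FiniteField.pow_card (⟨x, hx⟩ : K))
    rw [hw, Nat.card_eq_fintype_card]
    simpa using this
  let K' : Subfield (fixField σ) := K.comap (fixField σ).subtype
  have hK' : Nat.card K' = w := Nat.card_congr ⟨fun x => ⟨x.1.1, x.2⟩, fun k => ⟨⟨k.1, (hmemK.1 k.2).1⟩, k.2⟩,
    fun _ => rfl, fun _ => rfl⟩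
  have hqw : q = w ^ Module.finrank K' (fixField σ) := by
    rw [← hK', ← Module.natCard_eq_pow_finrank, hu.card_fix]
  refine ⟨w, Module.finrank K' (fixField σ), hw2, hqw, (Nat.card_congr eKW).symm, ?_, fun α₀ hα₀ hα₀0 => ?_⟩
  · set ψ := (normHom σ).comp (torA h H).subtype with hψ
    have h1 := ψ.ker.index_mul_card
    rw [Subgroup.index_ker] at h1
    rw [← h1, mul_comm]
    refine Nat.mul_le_mul ?_ ?_
    · calc Nat.card ψ.ker ≤ Nat.card (normHom σ).ker :=
            Nat.card_le_card_of_injective (fun x => ⟨x.1.1, x.2⟩)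
              fun x y hxy => Subtype.ext (Subtype.ext (Subtype.mk.inj hxy))
        _ = q + 1 := by rw [card_ker_normHom hu.toIsInvol, hu.card_fix]
    · calc Nat.card ψ.range ≤ Nat.card Kˣ := by
            refine Nat.card_le_card_of_injective (fun x => Units.mk0 (⟨((x.1 : Fˣ) : F), ?_⟩ : K)
              fun h0 => x.1.ne_zero (congrArg Subtype.val h0)) fun x y hxy =>
                Subtype.ext (Units.ext (congrArg Subtype.val (congrArg Units.val hxy)))
            obtain ⟨a, ha⟩ := x.2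
            rw [← ha, MonoidHom.comp_apply, normHom_coe]
            exact hNK _ a.2
        _ = w - 1 := by rw [Nat.card_units]
  · obtain ⟨k, -, hk⟩ : ∃ s, 0 < s ∧ w = 2 ^ s := by
      haveI : Fintype K := Fintype.ofFinite K
      obtain ⟨n, -, hn⟩ := FiniteField.card K 2
      exact ⟨n, n.pos, by rw [hw, Nat.card_eq_fintype_card, hn]⟩
    let φ : F →+* F := iterateFrobenius F 2 k
    have hφ : ∀ x : F, φ x = x ^ w := fun x => by rw [iterateFrobenius_def, hk]
    have hN0 : α₀ * σ α₀ ≠ 0 := mul_ne_zero hα₀0 ((map_ne_zero σ).2 hα₀0)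
    have hρ : ∀ α ∈ vGrp hu h H, ((α / α₀) * σ (α / α₀)) ∈ K ∧ (α / α₀) + σ (α / α₀) ∈ K := by
      have hq : ∀ α ∈ vGrp hu h H, (α / α₀) * σ (α / α₀) ∈ K := fun α hα => by
        obtain ⟨k1, hk1, e1⟩ := hWK _ (square_mem hu h H hα)
        obtain ⟨k0, hk0, e0⟩ := hWK _ (square_mem hu h H hα₀)
        have : (α / α₀) * σ (α / α₀) = k1 / k0 := by
          rw [map_div₀, div_mul_div_comm, e1, e0, mul_div_mul_right _ _ hw00]
        rw [this]
        exact K.div_mem hk1 hk0
      intro α hα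
      refine ⟨hq α hα, ?_⟩
      have h1 := hq (α + α₀) ((vGrp hu h H).add_mem hα hα₀)
      have e : (α + α₀) / α₀ = α / α₀ + 1 := by rw [add_div, div_self hα₀0]
      rw [e, map_add, map_one] at h1
      have := K.sub_mem (K.sub_mem h1 (hq α hα)) K.one_mem
      convert this using 1
      ring
    have hτV : ∀ a : Fˣ, a ∈ torA h H →
        σ (a : F) * σ a / a * α₀ ∈ vGrp hu h H := fun a ha => (torus_invariant hu h H ha).2 _ hα₀
    by_cases hr : Even (Module.finrank K' (fixField σ))
    · refine ⟨{x | x ^ w = x}, by simp [zero_pow (show w ≠ 0 by omega)],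
        by rw [if_pos hr]; exact ncard_pow_fix (by omega), ?_⟩
      have hmain : ∀ α ∈ vGrp hu h H, (α / α₀) ^ w = α / α₀ := by
        intro α hα
        set ρ := α / α₀
        obtain ⟨hn, ht⟩ := hρ α hα
        have hroot : ρ ^ 2 - (ρ + σ ρ) * ρ + ρ * σ ρ = 0 := by ring
        have h2 : φ (φ ρ) = ρ := by
          have h3 : (φ ρ - ρ) * (φ ρ - σ ρ) = 0 := by
            have := congrArg φ hroot
            simp only [map_add, map_sub, map_mul, map_pow, map_zero] at this
            rw [show φ ρ + φ (σ ρ) = ρ + σ ρ by rw [← map_add, hφ, hKfix _ ht],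
              show φ ρ * φ (σ ρ) = ρ * σ ρ by rw [← map_mul, hφ, hKfix _ hn]] at this
            linear_combination this
          rcases mul_eq_zero.1 h3 with h4 | h4
          · rw [sub_eq_zero.1 h4, sub_eq_zero.1 h4]
          · rw [sub_eq_zero.1 h4, hφ, ← map_pow, ← hφ, sub_eq_zero.1 h4, hu.invol]
        obtain ⟨j, hj⟩ := hr
        have hσρ : σ ρ = ρ := by
          rw [hu.pow, hqw, hj]
          have h5 : ∀ i : ℕ, ρ ^ w ^ (i + i) = ρ := fun i => by
            induction i with
            | zero => simp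
            | succ i ih =>
              rw [show i + 1 + (i + 1) = (i + i) + 1 + 1 by ring, pow_succ, pow_succ, pow_mul, pow_mul, ih, ← hφ,
                ← hφ]
              exact h2
          exact h5 j
        rw [hσρ] at hn
        have h6 := hKfix _ hn
        rw [← pow_two, ← pow_mul, mul_comm, pow_mul] at h6
        rw [CharTwo.sq_inj] at h6
        exact h6
      refine ⟨?_, fun a ha => ?_⟩
      · rw [← Nat.card_coe_set_eq]
        exact Nat.card_le_card_of_injective (fun α => ⟨α.1 / α₀, hmain α.1 α.2⟩)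
          fun x y hxy => Subtype.ext (by
            have := congrArg (fun z : ({x : F | x ^ w = x} : Set F) => z.1 * α₀) hxy
            simpa [div_mul_cancel₀ _ hα₀0] using this)
      · have := hmain _ (hτV a ha)
        rwa [mul_div_cancel_right₀ _ hα₀0] at this
    · refine ⟨{x | x ^ (w * w) = x}, by simp [zero_pow (show w * w ≠ 0 by positivity)],
        by rw [if_neg hr]; exact ncard_pow_fix (by nlinarith), ?_⟩
      have hmain : ∀ α ∈ vGrp hu h H, (α / α₀) ^ (w * w) = α / α₀ := by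
        intro α hα
        set ρ := α / α₀
        obtain ⟨hn, ht⟩ := hρ α hα
        rw [pow_mul, ← hφ, ← hφ]
        have hroot : ρ ^ 2 - (ρ + σ ρ) * ρ + ρ * σ ρ = 0 := by ring
        have h3 : (φ ρ - ρ) * (φ ρ - σ ρ) = 0 := by
          have := congrArg φ hroot
          simp only [map_add, map_sub, map_mul, map_pow, map_zero] at this
          rw [show φ ρ + φ (σ ρ) = ρ + σ ρ by rw [← map_add, hφ, hKfix _ ht],
            show φ ρ * φ (σ ρ) = ρ * σ ρ by rw [← map_mul, hφ, hKfix _ hn]] at this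
          linear_combination this
        rcases mul_eq_zero.1 h3 with h4 | h4
        · rw [sub_eq_zero.1 h4, sub_eq_zero.1 h4]
        · rw [sub_eq_zero.1 h4, hφ, ← map_pow, ← hφ, sub_eq_zero.1 h4, hu.invol]
      refine ⟨?_, fun a ha => ?_⟩
      · rw [← Nat.card_coe_set_eq]
        exact Nat.card_le_card_of_injective (fun α => ⟨α.1 / α₀, hmain α.1 α.2⟩)
          fun x y hxy => Subtype.ext (by
            have := congrArg (fun z : ({x : F | x ^ (w * w) = x} : Set F) => z.1 * α₀) hxy
            simpa [div_mul_cancel₀ _ hα₀0] using this)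
      · have := hmain _ (hτV a ha)
        rwa [mul_div_cancel_right₀ _ hα₀0] at this

end Cfsg.Agent.MinIndexPSU3
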