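import Mathlib

/-!
A subgroup of a doubly transitive group that is not transitive has index at least the degree
(Fisher's inequality for the design of the translates of one of its orbits).
-/

set_option autoImplicit false

namespace Cfsg.Agent.MinIndexPSU3

open MulAction
open scoped Pointwise

theorem fisher {G X : Type*} [Group G] [Finite G] [MulAction G X] [Finite X]
    (h2 : ∀ a b c d : X, a ≠ b → c ≠ d → ∃ g : G, g • a = c ∧ g • b = d)
    (H : Subgroup G) (x y : X) (hxy : ∀ h ∈ H, h • x ≠ y) : Nat.card X ≤ H.index := by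
  classical
  have : Fintype X := Fintype.ofFinite X
  have htrans : ∀ a b : X, ∃ g : G, g • a = b := fun a b => by
    by_cases hab : a = b
    · exact ⟨1, by rw [one_smul, hab]⟩
    · obtain ⟨g, hg, -⟩ := h2 a b b a hab (Ne.symm hab)
      exact ⟨g, hg⟩
  set O : Finset X := Finset.univ.filter fun z => ∃ h ∈ H, h • x = z with hOdef
  have hxO : x ∈ O := by simpa [hOdef] using ⟨1, H.one_mem, one_smul G x⟩
  have hyO : y ∉ O := by simpa [hOdef] using hxy
  set B : Finset (Finset X) := (Set.range fun g : G => g • O).toFinite.toFinset with hBdef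
  have hmemB : ∀ {b : Finset X}, b ∈ B ↔ ∃ g : G, g • O = b := by simp [hBdef]
  -- the number of blocks is at most the index
  have hBle : B.card ≤ H.index := by
    have hHst : H ≤ stabilizer G O := fun h hh => by
      rw [mem_stabilizer_iff]
      ext z
      rw [← smul_inv_smul h z, Finset.smul_mem_smul_finset_iff, smul_inv_smul]
      simp only [hOdef, Finset.mem_filter, Finset.mem_univ, true_and]
      constructor
      · rintro ⟨k, hk, hkz⟩
        exact ⟨h * k, H.mul_mem hh hk, by rw [mul_smul, hkz, smul_inv_smul]⟩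
      · rintro ⟨k, hk, hkz⟩
        exact ⟨h⁻¹ * k, H.mul_mem (H.inv_mem hh) hk, by rw [mul_smul, hkz]⟩
    have h1 : B.card = (stabilizer G O).index := by
      rw [index_stabilizer, Set.ncard_eq_toFinset_card _ (Set.toFinite _)]
      rfl
    rw [h1]
    exact Nat.le_of_dvd (Nat.pos_of_ne_zero H.index_ne_zero_of_finite) (Subgroup.index_dvd_of_le hHst)
  refine le_trans ?_ hBle
  -- incidence
  have hinv : ∀ (g : G) (a b : X), (B.filter fun c => g • a ∈ c ∧ g • b ∈ c).card =
      (B.filter fun c => a ∈ c ∧ b ∈ c).card := fun g a b => by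
    refine Finset.card_bij' (fun c _ => g⁻¹ • c) (fun c _ => g • c) ?_ ?_ ?_ ?_
    · intro c hc
      rw [Finset.mem_filter, hmemB] at hc
      obtain ⟨⟨k, rfl⟩, ha, hb⟩ := hc
      rw [Finset.mem_filter, hmemB]
      refine ⟨⟨g⁻¹ * k, mul_smul _ _ _⟩, ?_, ?_⟩ <;>
        rw [← Finset.smul_mem_smul_finset_iff g, smul_inv_smul] <;> assumption
    · intro c hc
      rw [Finset.mem_filter, hmemB] at hc
      obtain ⟨⟨k, rfl⟩, ha, hb⟩ := hc
      rw [Finset.mem_filter, hmemB]
      exact ⟨⟨g * k, mul_smul _ _ _⟩, Finset.smul_mem_smul_finset ha, Finset.smul_mem_smul_finset hb⟩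
    · intro c _; exact smul_inv_smul g c
    · intro c _; exact inv_smul_smul g c
  set r : ℕ := (B.filter fun c => x ∈ c ∧ x ∈ c).card with hr
  set l : ℕ := (B.filter fun c => x ∈ c ∧ y ∈ c).card with hl
  have hxne : x ≠ y := fun h => hyO (h ▸ hxO)
  have hrab : ∀ a : X, (B.filter fun c => a ∈ c ∧ a ∈ c).card = r := fun a => by
    obtain ⟨g, rfl⟩ := htrans x a
    exact hinv g x x
  have hlab : ∀ a b : X, a ≠ b → (B.filter fun c => a ∈ c ∧ b ∈ c).card = l := fun a b hab => by
    obtain ⟨g, rfl, rfl⟩ := h2 x y a b hxne hab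
    exact hinv g x y
  have hlr : l < r := by
    refine Finset.card_lt_card ⟨fun c hc => ?_, fun hsub => ?_⟩
    · simp only [Finset.mem_filter] at hc ⊢
      exact ⟨hc.1, hc.2.1, hc.2.1⟩
    · have := hsub (show O ∈ B.filter fun c => x ∈ c ∧ x ∈ c by
        simp only [Finset.mem_filter, hmemB]
        exact ⟨⟨1, one_smul _ _⟩, hxO, hxO⟩)
      exact hyO (Finset.mem_filter.1 this).2.2
  -- the incidence map is injective
  let T : (X → ℚ) →ₗ[ℚ] (B → ℚ) :=
    { toFun := fun f c => ∑ a, if a ∈ (c : Finset X) then f a else 0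
      map_add' := fun f g => funext fun c => by
        simp only [Pi.add_apply, ← Finset.sum_add_distrib]
        exact Finset.sum_congr rfl fun a _ => by split_ifs <;> simp
      map_smul' := fun k f => funext fun c => by
        simp only [Pi.smul_apply, smul_eq_mul, RingHom.id_apply, Finset.mul_sum, mul_ite, mul_zero] }
  have hinj : Function.Injective T := by
    refine (injective_iff_map_eq_zero T).2 fun f hf => ?_
    have h0 : ∀ c ∈ B, (∑ a, if a ∈ c then f a else 0) = 0 := fun c hc => congrFun hf ⟨c, hc⟩
    have hN : ∀ a b : X, (∑ c ∈ B, if a ∈ c ∧ b ∈ c then (1 : ℚ) else 0) =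
        if a = b then (r : ℚ) else (l : ℚ) := fun a b => by
      rw [Finset.sum_boole]
      split_ifs with hab
      · subst hab; exact_mod_cast hrab a
      · exact_mod_cast hlab a b hab
    have key : ∀ a : X, ∑ b, (if a = b then (r : ℚ) else (l : ℚ)) * f b = 0 := fun a => by
      calc ∑ b, (if a = b then (r : ℚ) else (l : ℚ)) * f b
          = ∑ b, ∑ c ∈ B, if a ∈ c ∧ b ∈ c then f b else 0 := Finset.sum_congr rfl fun b _ => by
            rw [← hN, Finset.sum_mul]
            simp only [ite_mul, one_mul, zero_mul]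
        _ = ∑ c ∈ B, ∑ b, if a ∈ c ∧ b ∈ c then f b else 0 := Finset.sum_comm
        _ = 0 := Finset.sum_eq_zero fun c hc => by
            by_cases ha : a ∈ c
            · simpa [ha] using h0 c hc
            · simp [ha]
    have key' : ∀ a : X, ((r : ℚ) - l) * f a + l * ∑ b, f b = 0 := fun a => by
      rw [← key a, Finset.mul_sum]
      have : ∀ b, (if a = b then (r : ℚ) else (l : ℚ)) * f b = (if a = b then ((r : ℚ) - l) * f b else 0) + l * f b :=
        fun b => by split_ifs <;> ring
      rw [Finset.sum_congr rfl fun b _ => this b, Finset.sum_add_distrib, Finset.sum_ite_eq]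
      simp
    have hpos : (0 : ℚ) < (r : ℚ) - l := sub_pos.2 (by exact_mod_cast hlr)
    have hsum : ∑ b, f b = 0 := by
      have h1 : ((r : ℚ) - l + Fintype.card X * l) * ∑ b, f b = 0 := by
        have := Finset.sum_eq_zero (s := (Finset.univ : Finset X)) fun a _ => key' a
        rw [Finset.sum_add_distrib, ← Finset.mul_sum, Finset.sum_const, Finset.card_univ, nsmul_eq_mul] at this
        linear_combination this
      refine (mul_eq_zero.1 h1).resolve_left (ne_of_gt ?_)
      positivity
    funext a
    have := key' a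
    rw [hsum, mul_zero, add_zero] at this
    exact (mul_eq_zero.1 this).resolve_left hpos.ne'
  have := LinearMap.finrank_le_finrank_of_injective hinj
  simpa [Module.finrank_fintype_fun_eq_card, Nat.card_eq_fintype_card] using this

end Cfsg.Agent.MinIndexPSU3
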