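import Cfsg.Agent.MinIndexPSU3.EvenBase
import Cfsg.Agent.MinIndexPSU3.ChordCases

/-!
Transitive subgroups without transvections: basic facts.
-/

set_option autoImplicit false

namespace Cfsg.Agent.MinIndexPSU3

open AutPSU Matrix Classical.Herm

variable {q : ℕ} {F : Type*} [Field F] [Fintype F] {σ : F →+* F} (hu : UCtx σ q)
include hu

/-- A non-trivial element trivial on the flag of e fixes only the point of e. -/
theorem flag_fix_unique {e m f : Vn 3 F} (h : Fr σ e m f) {s : Su 3 F q} (hs : s ∈ flagFix σ e) (hne : s ≠ 1)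
    {v : Vn 3 F} (hv0 : v ≠ 0) (hv : hB 3 σ v v = 0) (hsv : s ∈ lineStab v) : ∃ a : F, v = a • e := by
  by_contra hc
  obtain ⟨u, hu', a, ha, huf⟩ := h.other hu hv0 hv hc
  obtain ⟨r, hr⟩ := hsv
  have hs' : u⁻¹ * s * u ∈ flagFix σ e := mul_mem (mul_mem (inv_mem hu') hs) hu'
  have h2 : mat (u⁻¹ * s * u) *ᵥ f = r • f := by
    rw [mat_mul_mulVec, mat_mul_mulVec, huf, Matrix.mulVec_smul, hr, smul_comm, Matrix.mulVec_smul,
      ← huf, mat_inv_mulVec]
  have hT := (h.torus_of hu (l := 1) (by rw [one_smul]; exact hs'.1) h2).2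
  have h1 : IsT σ e m f (1 : Su 3 F q) 1 := ⟨by simp [mat_one_mulVec], by simp [mat_one_mulVec], by simp [mat_one_mulVec]⟩
  have := h.isT_unique hu hT h1
  exact hne (by simpa [mul_eq_one_iff_eq_inv, inv_mul_eq_iff_eq_mul] using this)

theorem wGrp_bot {e m f : Vn 3 F} (h : Fr σ e m f) {H : Subgroup (Su 3 F q)}
    (hW : ∀ c : F, c + σ c = 0 → tr hu e c ∈ H → c = 0) : Nat.card (wGrp hu h H) = 1 :=
  Nat.card_eq_one_iff_unique.2 ⟨⟨fun a b => Subtype.ext (by rw [hW _ a.2.1 a.2.2, hW _ b.2.1 b.2.2])⟩,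
    ⟨⟨0, (wGrp hu h H).zero_mem⟩⟩⟩

/-- The first coordinates lie on one line over the fixed field and their number divides q. -/
theorem vGrp_line {e m f : Vn 3 F} (h : Fr σ e m f) {H : Subgroup (Su 3 F q)}
    (hW : ∀ c : F, c + σ c = 0 → tr hu e c ∈ H → c = 0) {α₀ : F} (hα₀ : α₀ ∈ vGrp hu h H) (h0 : α₀ ≠ 0) :
    (∀ α ∈ vGrp hu h H, σ (α / α₀) = α / α₀) ∧ Nat.card (vGrp hu h H) ∣ q := by
  have hline : ∀ α ∈ vGrp hu h H, σ (α / α₀) = α / α₀ := fun α hα => by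
    obtain ⟨h1, h2⟩ := commutator_mem hu h H hα hα₀
    have h3 := hW _ h1 h2
    rw [map_div₀, div_eq_div_iff ((map_ne_zero σ).2 h0) h0]
    linear_combination -h3
  refine ⟨hline, ?_⟩
  let φ : vGrp hu h H →+ fixField σ :=
    { toFun := fun α => ⟨α.1 / α₀, hline α.1 α.2⟩
      map_zero' := Subtype.ext (by simp)
      map_add' := fun a b => Subtype.ext (add_div _ _ _) }
  have hφ : Function.Injective φ := fun a b hab =>
    Subtype.ext ((div_left_inj' h0).1 (congrArg Subtype.val hab))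
  exact (dvd_of_eq (Nat.card_congr (AddMonoidHom.ofInjective hφ).toEquiv)).trans
    (φ.range.card_addSubgroup_dvd_card.trans (dvd_of_eq hu.card_fix))

theorem pow_q_sub_one {x : F} (hx : σ x = x) (hx0 : x ≠ 0) : x ^ (q - 1) = 1 := by
  rw [hu.pow] at hx
  refine mul_right_cancel₀ hx0 ?_
  rw [← pow_succ, Nat.sub_add_cancel hu.one_lt.le, hx, one_mul]

theorem torus_order {e m f : Vn 3 F} (h : Fr σ e m f) {H : Subgroup (Su 3 F q)}
    (hW : ∀ c : F, c + σ c = 0 → tr hu e c ∈ H → c = 0) {α₀ : F} (hα₀ : α₀ ∈ vGrp hu h H) (h0 : α₀ ≠ 0) :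
    Nat.card (torA h H) ∣ 3 * (q - 1) := by
  rw [← IsCyclic.exponent_eq_card (α := torA h H)]
  refine Monoid.exponent_dvd_of_forall_pow_eq_one fun a => Subtype.ext (Units.ext ?_)
  have h1 := (torus_invariant hu h H a.2).2 _ hα₀
  have h2 := (vGrp_line hu h hW hα₀ h0).1 _ h1
  rw [mul_div_cancel_right₀ _ h0, map_div₀, map_mul, hu.invol] at h2
  have ha : ((a.1 : Fˣ) : F) ≠ 0 := a.1.ne_zero
  rw [div_eq_div_iff ((map_ne_zero σ).2 ha) ha] at h2
  have h3 : σ (((a.1 : Fˣ) : F) ^ 3) = ((a.1 : Fˣ) : F) ^ 3 := by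
    rw [map_pow]; linear_combination -h2
  have h4 := pow_q_sub_one hu h3 (pow_ne_zero _ ha)
  rw [← pow_mul] at h4
  simpa using h4

/-- An involution in a transitive group of odd characteristic gives -1 in the torus image. -/
theorem neg_one_torA (p : ℕ) [Fact p.Prime] [CharP F p] (hp : Odd p) (h2 : (2 : F) ≠ 0) {H : Subgroup (Su 3 F q)}
    (hH : Big σ H) {e m f : Vn 3 F} (h : Fr σ e m f) (hev : 2 ∣ Nat.card H) : (-1 : Fˣ) ∈ torA h H := by
  haveI : Fact (Nat.Prime 2) := ⟨Nat.prime_two⟩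
  obtain ⟨t, ht⟩ := exists_prime_orderOf_dvd_card' (G := H) 2 hev
  have htt : t.1 * t.1 = 1 := by
    rw [← Subgroup.coe_mul, ← pow_two, (orderOf_eq_prime_iff.1 ht).1]; rfl
  obtain ⟨v, hv0, hv, a, hta⟩ := invol_fix hu h2 htt
  obtain ⟨g, hg, b, hgb⟩ := hH.trans e v h.hp.e_ne h.hp.ee hv0 hv
  have hb : b ≠ 0 := smul_ne_zero_of_eq hu h.hp.e_ne hgb
  set t0 := g⁻¹ * t.1 * g with ht0
  have ht0e : mat t0 *ᵥ e = a • e := by
    rw [ht0, mat_mul_mulVec, mat_mul_mulVec, hgb, Matrix.mulVec_smul, hta, smul_comm, Matrix.mulVec_smul,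
      ← hgb, mat_inv_mulVec]
  have h00 : t0 * t0 = 1 := by
    rw [ht0]; simp only [mul_assoc, mul_inv_cancel_left]; rw [← mul_assoc t.1, htt, one_mul, inv_mul_cancel]
  have ha2 : a * a = 1 := by
    refine smul_left_injective F h.hp.e_ne (show (a * a) • e = (1 : F) • e from ?_)
    rw [one_smul]
    conv_rhs => rw [← mat_one_mulVec (q := q) e, ← h00, mat_mul_mulVec, ht0e, Matrix.mulVec_smul, ht0e, smul_smul]
  refine (mem_torA hu h H).2 ⟨t0, H.mul_mem (H.mul_mem (H.inv_mem hg) t.2) hg, ?_⟩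
  rcases mul_self_eq_one_iff.1 ha2 with h1 | h1
  · exfalso
    rw [h1, one_smul] at ht0e
    have h3 := flagFix_pow hu p (by omega) ((h.mem_flag_iff hu).2 ht0e)
    have h4 : t0 = 1 := by
      obtain ⟨k, hk⟩ := hp.pow (n := 2)
      rw [hk, pow_succ, pow_mul, pow_two, h00, one_pow, one_mul] at h3
      exact h3
    have h5 : t.1 = 1 := by
      have : t.1 = g * t0 * g⁻¹ := by rw [ht0]; group
      rw [this, h4, mul_one, mul_inv_cancel]
    rw [show t = 1 from Subtype.ext h5, orderOf_one] at ht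
    omega
  · rw [ht0e, h1, Units.val_neg, Units.val_one]

/-- The reflection in H at a frame through e. -/
theorem exists_reflection (p : ℕ) [Fact p.Prime] [CharP F p] (hp : Odd p) {H : Subgroup (Su 3 F q)}
    {e m f : Vn 3 F} (h : Fr σ e m f) (hneg : (-1 : Fˣ) ∈ torA h H) :
    ∃ m' f' t, Fr σ e m' f' ∧ t ∈ H ∧ IsT σ e m' f' t (-1 : F) := by
  obtain ⟨g, hgH, hge⟩ := (mem_torA hu h H).1 hneg
  rw [Units.val_neg, Units.val_one] at hge
  have hge2 : mat (g ^ 2) *ᵥ e = e := by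
    rw [pow_two, mat_mul_mulVec, hge, Matrix.mulVec_smul, hge, smul_smul, neg_one_mul, neg_neg, one_smul]
  have hodd : Odd (p ^ 2) := hp.pow
  set t := g ^ p ^ 2 with ht
  have hte : mat t *ᵥ e = (-1 : F) • e := by
    obtain ⟨k, hk⟩ := hodd
    rw [ht, hk, pow_succ', pow_mul, mat_mul_mulVec,
      ((flagFix σ e).pow_mem ((h.mem_flag_iff hu).2 hge2) k).1, hge]
  have htt : t * t = 1 := by
    rw [ht, ← pow_two, ← pow_mul, mul_comm, pow_mul]
    exact flagFix_pow hu p (by omega) ((h.mem_flag_iff hu).2 hge2)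
  obtain ⟨-, s, hs, k, hk, htk⟩ := h.decomp hu hte
  have hk1 : IsT σ e m f (1 : Su 3 F q) 1 := ⟨by simp [mat_one_mulVec], by simp [mat_one_mulVec], by simp [mat_one_mulVec]⟩
  have hkk : k * k = 1 := h.isT_unique hu (by simpa using hk.mul hu hk) hk1
  have hinv : k * s * k = s⁻¹ := by
    refine eq_inv_of_mul_eq_one_right ?_
    rw [← htt, htk]; simp only [mul_assoc]
  have hr := dihedral_root hodd (flagFix_pow hu p (by omega) hs) hkk hinv
  set r := s ^ ((p ^ 2 + 1) / 2) with hrdef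
  have hrs : r ∈ flagFix σ e := pow_mem hs _
  refine ⟨mat r *ᵥ m, mat r *ᵥ f, t, ?_, H.pow_mem hgH _, ?_⟩
  · have := h.conj hu r
    rwa [hrs.1] at this
  · have := hk.conj hu r
    rwa [hrs.1, hr, ← htk] at this

/-- The centraliser of the reflection is transitive on the chord and keeps the torus image. -/
theorem reflection_centraliser (p : ℕ) [Fact p.Prime] [CharP F p] (hp : Odd p) (h2 : (2 : F) ≠ 0)
    {H : Subgroup (Su 3 F q)} (hH : Big σ H) {e m f : Vn 3 F} (h : Fr σ e m f) {t : Su 3 F q} (htH : t ∈ H)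
    (ht : IsT σ e m f t (-1 : F)) {v : Vn 3 F} (hv0 : v ≠ 0) (hv : hB 3 σ v v = 0) (hmv : hB 3 σ m v = 0)
    {g : Su 3 F q} (hg : g ∈ H) {a : F} (hga : mat g *ᵥ e = a • v) :
    ∃ k ∈ H, k ∈ lineStab m ∧ mat k *ᵥ e = a • v := by
  obtain ⟨t1, t2, t3⟩ := ht
  rw [map_neg, map_one, neg_div_neg_eq, div_one, one_smul] at t2
  rw [map_neg, map_one, inv_neg, inv_one] at t3
  have htv : mat t *ᵥ v = -v := by
    conv_lhs => rw [h.repr hu v, hmv, zero_smul, add_zero]
    conv_rhs => rw [h.repr hu v, hmv, zero_smul, add_zero]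
    rw [Matrix.mulVec_add, Matrix.mulVec_smul, Matrix.mulVec_smul, t1, t3]
    module
  have htt : t * t = 1 := by
    refine h.ext hu ?_ ?_ ?_ <;> rw [mat_mul_mulVec, mat_one_mulVec]
    · rw [t1, Matrix.mulVec_smul, t1, smul_smul]; simp
    · rw [t2, t2]
    · rw [t3, Matrix.mulVec_smul, t3, smul_smul]; simp
  have hti : t⁻¹ = t := inv_eq_of_mul_eq_one_right htt
  set t' := g * t * g⁻¹ with ht'
  have ht't : t' * t' = 1 := by rw [ht', conj_mul, htt, mul_one, mul_inv_cancel]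
  have ha : a ≠ 0 := smul_ne_zero_of_eq hu h.hp.e_ne hga
  have hgiv : mat g⁻¹ *ᵥ v = a⁻¹ • e := by
    have h1 := congrArg (mat g⁻¹ *ᵥ ·) hga
    simp only [mat_inv_mulVec, Matrix.mulVec_smul] at h1
    conv_rhs => rw [h1]
    rw [smul_smul, inv_mul_cancel₀ ha, one_smul]
  have ht'v : mat t' *ᵥ v = -v := by
    rw [ht', mat_mul_mulVec, mat_mul_mulVec, hgiv, Matrix.mulVec_smul, t1, Matrix.mulVec_smul, Matrix.mulVec_smul,
      hga, smul_smul, smul_smul]
    rw [mul_comm, ← mul_assoc, mul_inv_cancel₀ ha]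
    simp
  set x := t' * t with hx
  have hxv : mat x *ᵥ v = v := by rw [hx, mat_mul_mulVec, htv, Matrix.mulVec_neg, ht'v, neg_neg]
  obtain ⟨m₁, f₁, h₁⟩ := exists_fr hu hv0 hv
  have hxp := flagFix_pow hu p (by omega) ((h₁.mem_flag_iff hu).2 hxv)
  have hinv : t * x * t = x⁻¹ := by
    rw [hx, mul_assoc, mul_assoc, htt, mul_one, _root_.mul_inv_rev, hti, inv_eq_of_mul_eq_one_right ht't]
  have hr := dihedral_root hp.pow hxp htt hinv
  set r := x ^ ((p ^ 2 + 1) / 2) with hrdef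
  have hrH : r ∈ H := H.pow_mem (H.mul_mem (H.mul_mem (H.mul_mem hg htH) (H.inv_mem hg)) htH) _
  have hrv : mat r *ᵥ v = v := ((flagFix σ v).pow_mem ((h₁.mem_flag_iff hu).2 hxv) _).1
  have hrt : r * t * r⁻¹ = g * t * g⁻¹ := by rw [hr, hx, mul_assoc, htt, mul_one]
  refine ⟨r⁻¹ * g, H.mul_mem (H.inv_mem hrH) hg, ?_, ?_⟩
  · have hcomm : t * (r⁻¹ * g) = (r⁻¹ * g) * t := by
      calc t * (r⁻¹ * g) = r⁻¹ * (r * t * r⁻¹) * g := by group
        _ = r⁻¹ * (g * t * g⁻¹) * g := by rw [hrt]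
        _ = _ := by group
    have hfix : mat t *ᵥ (mat (r⁻¹ * g) *ᵥ m) = mat (r⁻¹ * g) *ᵥ m := by
      rw [← mat_mul_mulVec, hcomm, mat_mul_mulVec, t2]
    set w := mat (r⁻¹ * g) *ᵥ m with hw
    obtain ⟨q1, q2, q3, q4, q5, q6, q7, q8, q9⟩ := h.relations hu
    have he : hB 3 σ e w = 0 := by
      have h0 := hB_mat hu t e w
      rw [hfix, t1, map_smulₛₗ, LinearMap.smul_apply, smul_eq_mul, map_neg, map_one] at h0
      exact (mul_eq_zero.1 (show (2 : F) * hB 3 σ e w = 0 by linear_combination -h0)).resolve_left h2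
    have hf : hB 3 σ f w = 0 := by
      have h0 := hB_mat hu t f w
      rw [hfix, t3, map_smulₛₗ, LinearMap.smul_apply, smul_eq_mul, map_neg, map_one] at h0
      exact (mul_eq_zero.1 (show (2 : F) * hB 3 σ f w = 0 by linear_combination -h0)).resolve_left h2
    refine mem_lineStab.2 ⟨hB 3 σ m w, ?_⟩
    rw [← hw]
    conv_lhs => rw [h.repr hu w, he, hf]
    simp
  · have hriv : mat r⁻¹ *ᵥ v = v := by conv_lhs => rw [← hrv, mat_inv_mulVec]
    rw [mat_mul_mulVec, hga, Matrix.mulVec_smul, hriv]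

end Cfsg.Agent.MinIndexPSU3
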