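import Cfsg.Agent.MinIndexPSU3.Local

/-!
Involutions in odd characteristic: a fixed isotropic point and conjugacy within a coset of a unipotent group.
-/

set_option autoImplicit false

namespace Cfsg.Agent.MinIndexPSU3

open AutPSU Matrix Classical.Herm

/-- An involution inverting an element of odd order is conjugate to its translate. -/
theorem dihedral_root {G : Type*} [Group G] {x t : G} {N : ℕ} (hN : Odd N) (hx : x ^ N = 1) (ht : t * t = 1)
    (hinv : t * x * t = x⁻¹) : (x ^ ((N + 1) / 2)) * t * (x ^ ((N + 1) / 2))⁻¹ = x * t := by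
  set r := x ^ ((N + 1) / 2) with hr
  have ht' : t⁻¹ = t := inv_eq_of_mul_eq_one_right ht
  have hrr : r * r = x := by
    obtain ⟨k, rfl⟩ := hN
    rw [hr, ← pow_add, show (2 * k + 1 + 1) / 2 + (2 * k + 1 + 1) / 2 = (2 * k + 1) + 1 by omega, pow_succ, hx,
      one_mul]
  have h1 : t * r⁻¹ * t = r := by
    have h2 : t * r * t⁻¹ = r⁻¹ := by
      rw [hr, ← conj_pow, ht', hinv, inv_pow]
    rw [ht'] at h2
    conv_rhs => rw [← inv_inv r, ← h2]
    simp only [_root_.mul_inv_rev, ht', mul_assoc]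
  calc r * t * r⁻¹ = r * (t * r⁻¹ * t) * t := by simp only [mul_assoc, ht, mul_one]
    _ = x * t := by rw [h1, hrr]

variable {q : ℕ} {F : Type*} [Field F] [Fintype F] {σ : F →+* F} (hu : UCtx σ q)
include hu

/-- An involution fixes an isotropic point. -/
theorem invol_fix (h2 : (2 : F) ≠ 0) {t : Su 3 F q} (ht : t * t = 1) :
    ∃ v : Vn 3 F, v ≠ 0 ∧ hB 3 σ v v = 0 ∧ ∃ a : F, mat t *ᵥ v = a • v := by
  classical
  by_contra hc
  push Not at hc
  have htt : ∀ x : Vn 3 F, mat t *ᵥ (mat t *ᵥ x) = x := fun x => by rw [← mat_mul_mulVec, ht, mat_one_mulVec]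
  have hH := hu.isHerm 3
  -- two vectors of one eigenspace are dependent
  have hdep : ∀ (ε : F) (u v : Vn 3 F), mat t *ᵥ u = ε • u → mat t *ᵥ v = ε • v → u ≠ 0 → ∃ r : F, v = r • u := by
    intro ε u v hu' hv' hu0
    have haniso : ∀ w : Vn 3 F, mat t *ᵥ w = ε • w → w ≠ 0 → hB 3 σ w w ≠ 0 := fun w hw hw0 hww =>
      hc w hw0 hww ε hw
    have huu := haniso u hu' hu0
    set r := hB 3 σ u v / hB 3 σ u u with hr
    by_contra hne
    have hw0 : v - r • u ≠ 0 := fun h0 => hne ⟨r, sub_eq_zero.1 h0⟩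
    have hw : mat t *ᵥ (v - r • u) = ε • (v - r • u) := by
      rw [Matrix.mulVec_sub, Matrix.mulVec_smul, hu', hv', smul_sub, smul_comm]
    set w := v - r • u with hwdef
    have hww := haniso w hw hw0
    have huw : hB 3 σ u w = 0 := by
      rw [hwdef, map_sub, map_smul, smul_eq_mul, hr, div_mul_cancel₀ _ huu, sub_self]
    have hwu : hB 3 σ w u = 0 := (eq_zero_comm hH).1 huw
    have hfix : σ (-(hB 3 σ u u / hB 3 σ w w)) = -(hB 3 σ u u / hB 3 σ w w) := by
      rw [map_neg, map_div₀, fix_self hH, fix_self hH]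
    obtain ⟨l, hl⟩ := exists_norm hu.toIsInvol hfix
    have hz0 : u + l • w ≠ 0 := fun h0 => huu (by
      have := congrArg (hB 3 σ u) h0
      simpa [huw] using this)
    refine hc _ hz0 ?_ ε (by rw [Matrix.mulVec_add, Matrix.mulVec_smul, hu', hw, smul_add, smul_comm])
    simp only [map_add, map_smulₛₗ, LinearMap.add_apply, LinearMap.smul_apply, smul_eq_mul, RingHom.id_apply, huw, hwu]
    field_simp at hl ⊢
    linear_combination hl
  -- hence the eigenspaces span at most a plane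
  have hgen : ∀ ε : F, ∃ u : Vn 3 F, ∀ v, mat t *ᵥ v = ε • v → ∃ r : F, v = r • u := fun ε => by
    by_cases hex : ∃ u : Vn 3 F, u ≠ 0 ∧ mat t *ᵥ u = ε • u
    · obtain ⟨u, hu0, hu'⟩ := hex
      exact ⟨u, fun v hv => hdep ε u v hu' hv hu0⟩
    · push Not at hex
      exact ⟨0, fun v hv => ⟨0, by
        by_cases hv0 : v = 0
        · simp [hv0]
        · exact absurd hv (hex v hv0)⟩⟩
  obtain ⟨u1, hu1⟩ := hgen 1
  obtain ⟨u2, hu2⟩ := hgen (-1)
  have hspan : Submodule.span F (Set.range ![u1, u2]) = ⊤ := Submodule.eq_top_iff'.2 fun x => by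
    obtain ⟨r, hr⟩ := hu1 (x + mat t *ᵥ x) (by rw [Matrix.mulVec_add, htt, one_smul, add_comm])
    obtain ⟨s, hs⟩ := hu2 (x - mat t *ᵥ x) (by rw [Matrix.mulVec_sub, htt, neg_one_smul, neg_sub])
    have hx : x = (2⁻¹ * r) • u1 + (2⁻¹ * s) • u2 := by
      rw [mul_smul, mul_smul, ← hr, ← hs, ← smul_add,
        show (x + mat t *ᵥ x) + (x - mat t *ᵥ x) = (2 : F) • x by rw [two_smul]; abel, smul_smul,
        inv_mul_cancel₀ h2, one_smul]
    rw [hx]
    exact add_mem (Submodule.smul_mem _ _ (Submodule.subset_span ⟨0, rfl⟩))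
      (Submodule.smul_mem _ _ (Submodule.subset_span ⟨1, rfl⟩))
  have hle := finrank_range_le_card (R := F) ![u1, u2]
  rw [Set.finrank, hspan, finrank_top, Module.finrank_fin_fun, Fintype.card_fin] at hle
  omega

end Cfsg.Agent.MinIndexPSU3
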