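import Cfsg.Agent.MinIndexPSU3.Pts

/-!
A transitive subgroup at a point: its unipotent part and its torus image.
-/

set_option autoImplicit false

namespace Cfsg.Agent.MinIndexPSU3

open AutPSU Matrix Classical.Herm

variable {q : ℕ} {F : Type*} [Field F] [Fintype F] {σ : F →+* F}

/-- A subgroup transitive on the isotropic points with a large point stabiliser. -/
structure Big (σ : F →+* F) (H : Subgroup (Su 3 F q)) : Prop where
  trans : ∀ v w : Vn 3 F, v ≠ 0 → hB 3 σ v v = 0 → w ≠ 0 → hB 3 σ w w = 0 →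
    ∃ g ∈ H, ∃ a : F, mat g *ᵥ v = a • w
  big : ∀ e : Vn 3 F, e ≠ 0 → hB 3 σ e e = 0 → q ^ 2 - 1 ≤ Nat.card ↥(H ⊓ lineStab e)
  cen : Subgroup.center (Su 3 F q) ≤ H

variable (hu : UCtx σ q)
include hu

theorem smul_ne_zero_of_eq {g : Su 3 F q} {v w : Vn 3 F} {a : F} (hv0 : v ≠ 0) (h : mat g *ᵥ v = a • w) :
    a ≠ 0 := fun h0 => mat_mulVec_ne_zero g hv0 (by rw [h, h0, zero_smul])

theorem Big.card (H : Subgroup (Su 3 F q)) (hH : Big σ H) {e : Vn 3 F} (he0 : e ≠ 0) (he : hB 3 σ e e = 0) :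
    Nat.card H = (q ^ 3 + 1) * Nat.card ↥(H ⊓ lineStab e) := by
  have : MulAction.IsPretransitive H (Pts hu) := ⟨fun P Q => by
    obtain ⟨v, hv0, hv, rfl⟩ := exists_mkPt hu P
    obtain ⟨w, hw0, hw, rfl⟩ := exists_mkPt hu Q
    obtain ⟨g, hg, a, hga⟩ := hH.trans v w hv0 hv hw0 hw
    refine ⟨⟨g, hg⟩, ?_⟩
    show g • mkPt hu v hv0 hv = _
    rw [smul_mkPt hu g hv0 hv, mkPt_eq_iff hu]
    exact ⟨a, hga.symm⟩⟩
  have h1 := (MulAction.stabilizer H (mkPt hu e he0 he)).index_mul_card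
  rw [MulAction.index_stabilizer_of_transitive, card_pts hu] at h1
  rw [← h1]
  congr 1
  have he' : MulAction.stabilizer H (mkPt hu e he0 he) = (H ⊓ lineStab e).subgroupOf H := by
    ext g
    rw [MulAction.mem_stabilizer_iff, Subgroup.mem_subgroupOf, Subgroup.mem_inf, ← stabilizer_mkPt hu he0 he,
      MulAction.mem_stabilizer_iff]
    exact ⟨fun h => ⟨g.2, h⟩, fun h => h.2⟩
  rw [he']
  exact Nat.card_congr (Subgroup.subgroupOfEquivOfLe inf_le_left).toEquiv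

variable {e m f : Vn 3 F} (h : Fr σ e m f) (H : Subgroup (Su 3 F q))

/-- The torus image of the stabiliser. -/
noncomputable def torA : Subgroup Fˣ :=
  (lam h.hp.e_ne).comp (Subgroup.inclusion (inf_le_right : H ⊓ lineStab (q := q) e ≤ lineStab e)) |>.range

theorem mem_torA {a : Fˣ} : a ∈ torA h H ↔ ∃ g ∈ H, mat g *ᵥ e = (a : F) • e := by
  constructor
  · rintro ⟨g, rfl⟩
    exact ⟨g.1, (Subgroup.mem_inf.1 g.2).1, lam_spec h.hp.e_ne (Subgroup.inclusion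
      (inf_le_right : H ⊓ lineStab (q := q) e ≤ lineStab e) g)⟩
  · rintro ⟨g, hgH, hg⟩
    exact ⟨⟨g, Subgroup.mem_inf.2 ⟨hgH, _, hg⟩⟩, Units.ext (lam_eq h.hp.e_ne _ hg)⟩

theorem card_point_stab :
    Nat.card ↥(H ⊓ lineStab e) = Nat.card ↥(H ⊓ flagFix (q := q) σ e) * Nat.card (torA h H) := by
  set ψ := (lam h.hp.e_ne).comp (Subgroup.inclusion (inf_le_right : H ⊓ lineStab (q := q) e ≤ lineStab e)) with hψ
  rw [← ψ.ker.index_mul_card, Subgroup.index_ker, mul_comm]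
  congr 1
  have hker : ψ.ker = (H ⊓ flagFix σ e).subgroupOf (H ⊓ lineStab e) := by
    ext g
    rw [MonoidHom.mem_ker, Subgroup.mem_subgroupOf, Subgroup.mem_inf]
    constructor
    · intro hg
      refine ⟨(Subgroup.mem_inf.1 g.2).1, (h.mem_flag_iff hu).2 ?_⟩
      have hs := lam_spec h.hp.e_ne (Subgroup.inclusion
        (inf_le_right : H ⊓ lineStab (q := q) e ≤ lineStab e) g)
      rw [show lam h.hp.e_ne _ = (1 : Fˣ) from hg, Units.val_one, one_smul] at hs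
      exact hs
    · rintro ⟨-, hg⟩
      refine Units.ext (lam_eq h.hp.e_ne _ ?_)
      rw [Units.val_one, one_smul]
      exact hg.1
  rw [hker]
  exact Nat.card_congr (Subgroup.subgroupOfEquivOfLe (fun g hg =>
    Subgroup.mem_inf.2 ⟨(Subgroup.mem_inf.1 hg).1, mem_lineStab.2 ⟨1, by
      rw [one_smul]; exact (Subgroup.mem_inf.1 hg).2.1⟩⟩)).toEquiv

/-- The transvection parameters in H. -/
def wGrp : AddSubgroup F where
  carrier := {c | c + σ c = 0 ∧ tr hu e c ∈ H}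
  zero_mem' := ⟨by simp, by rw [show tr hu e (0 : F) = 1 from eS_zero hu h.hp.ee]; exact H.one_mem⟩
  add_mem' {c d} hc hd := ⟨by rw [map_add]; linear_combination hc.1 + hd.1, by
    rw [← tr_mul hu h.hp.ee hc.1 hd.1]; exact H.mul_mem hc.2 hd.2⟩
  neg_mem' {c} hc := ⟨by rw [map_neg]; linear_combination -hc.1, by
    rw [show tr hu e (-c) = (tr hu e c)⁻¹ from eq_inv_of_mul_eq_one_left (by
      rw [tr_mul hu h.hp.ee (by rw [map_neg]; linear_combination -hc.1) hc.1, neg_add_cancel]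
      exact eS_zero hu h.hp.ee)]
    exact H.inv_mem hc.2⟩

theorem mem_wGrp {c : F} : c ∈ wGrp hu h H ↔ c + σ c = 0 ∧ tr hu e c ∈ H := Iff.rfl

/-- The first coordinate on the flag stabiliser. -/
noncomputable def alphaHom : ↥(H ⊓ flagFix (q := q) σ e) →* Multiplicative F :=
  MonoidHom.mk' (fun s => Multiplicative.ofAdd (hB 3 σ m (mat s.1 *ᵥ f))) fun s t => by
    obtain ⟨a1, e1⟩ := h.flag_coord hu (Subgroup.mem_inf.1 s.2).2
    obtain ⟨a2, e2⟩ := h.flag_coord hu (Subgroup.mem_inf.1 t.2).2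
    obtain ⟨a3, e3⟩ := h.flag_coord hu (Subgroup.mem_inf.1 (s * t).2).2
    obtain ⟨a4, e4⟩ := h.uE_mul hu a1 a2
    rw [← e1, ← e2, ← Subgroup.coe_mul, e3] at e4
    rw [← ofAdd_add]
    exact congrArg Multiplicative.ofAdd (h.uE_inj hu a3 a4 e4).1

/-- The first coordinates in H. -/
noncomputable def vGrp : AddSubgroup F := Subgroup.toAddSubgroup' (alphaHom hu h H).range

theorem mem_vGrp {α : F} : α ∈ vGrp hu h H ↔ ∃ d, Adm σ α d ∧ uE hu e m α d ∈ H := by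
  change Multiplicative.ofAdd α ∈ (alphaHom hu h H).range ↔ _
  constructor
  · rintro ⟨s, hs⟩
    obtain ⟨a1, e1⟩ := h.flag_coord hu (Subgroup.mem_inf.1 s.2).2
    have hα : hB 3 σ m (mat s.1 *ᵥ f) = α := Multiplicative.ofAdd.injective hs
    rw [hα] at a1 e1
    exact ⟨_, a1, e1 ▸ (Subgroup.mem_inf.1 s.2).1⟩
  · rintro ⟨d, ha, hH⟩
    refine ⟨⟨_, Subgroup.mem_inf.2 ⟨hH, h.uE_mem hu ha⟩⟩, ?_⟩
    obtain ⟨a1, e1⟩ := h.flag_coord hu (h.uE_mem hu ha)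
    exact congrArg Multiplicative.ofAdd (h.uE_inj hu ha a1 e1).1.symm

theorem card_unip : Nat.card ↥(H ⊓ flagFix (q := q) σ e) = Nat.card (vGrp hu h H) * Nat.card (wGrp hu h H) := by
  rw [← (alphaHom hu h H).ker.index_mul_card, Subgroup.index_ker]
  congr 1
  refine Nat.card_congr ⟨fun s => ⟨hB 3 σ f (mat s.1.1 *ᵥ f), ?_⟩, fun c => ⟨⟨tr hu e c.1, ?_⟩, ?_⟩, ?_, ?_⟩
  · obtain ⟨a1, e1⟩ := h.flag_coord hu (Subgroup.mem_inf.1 s.1.2).2
    have hα : hB 3 σ m (mat s.1.1 *ᵥ f) = 0 := Multiplicative.ofAdd.injective s.2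
    rw [hα] at a1 e1
    rw [h.uE_eq_tr hu] at e1
    exact ⟨adm_zero.1 a1, e1 ▸ (Subgroup.mem_inf.1 s.1.2).1⟩
  · rw [← h.uE_eq_tr hu]
    exact Subgroup.mem_inf.2 ⟨by rw [h.uE_eq_tr hu]; exact c.2.2, h.uE_mem hu (adm_zero.2 c.2.1)⟩
  · rw [MonoidHom.mem_ker]
    show Multiplicative.ofAdd (hB 3 σ m (mat (tr hu e c.1) *ᵥ f)) = 1
    rw [← h.uE_eq_tr hu, h.uE_f hu (adm_zero.2 c.2.1)]
    simp [h.hm.a_f hu, h.hm.a_e hu]
  · intro s
    obtain ⟨a1, e1⟩ := h.flag_coord hu (Subgroup.mem_inf.1 s.1.2).2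
    have hα : hB 3 σ m (mat s.1.1 *ᵥ f) = 0 := Multiplicative.ofAdd.injective s.2
    rw [hα, h.uE_eq_tr hu] at e1
    exact Subtype.ext (Subtype.ext e1.symm)
  · intro c
    apply Subtype.ext
    show hB 3 σ f (mat (tr hu e c.1) *ᵥ f) = c.1
    rw [← h.uE_eq_tr hu, h.uE_f hu (adm_zero.2 c.2.1)]
    simp [h.hp.ff, h.hp.fe hu, h.hm.2]

/-- The torus image acts on both parameter groups. -/
theorem torus_invariant {a : Fˣ} (ha : a ∈ torA h H) :
    (∀ c ∈ wGrp hu h H, (a : F) * σ a * c ∈ wGrp hu h H) ∧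
      ∀ α ∈ vGrp hu h H, σ (a : F) * σ a / a * α ∈ vGrp hu h H := by
  obtain ⟨g, hgH, hg⟩ := (mem_torA hu h H).1 ha
  constructor
  · intro c hc
    have hN : (a : F) * σ a * c + σ ((a : F) * σ a * c) = 0 := by
      rw [map_mul, map_mul, hu.invol]; linear_combination (a : F) * σ a * hc.1
    refine ⟨hN, ?_⟩
    rw [← tr_smul hu h.hp.ee hc.1, ← hg, ← conj_tr hu g h.hp.ee hc.1]
    exact H.mul_mem (H.mul_mem hgH hc.2) (H.inv_mem hgH)
  · intro α hα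
    obtain ⟨d, had, hH⟩ := (mem_vGrp hu h H).1 hα
    obtain ⟨hl, s, hs, k, hk, hgk⟩ := h.decomp hu hg
    obtain ⟨ha', hconj⟩ := h.uE_conj hu hl hk had
    obtain ⟨β, b, hb, rfl⟩ : ∃ β b, Adm σ β b ∧ s = uE hu e m β b := ⟨_, _, h.flag_coord hu hs⟩
    set α' := σ (a : F) * σ a / a * α
    set d' := (a : F) * σ a * d
    have hX : g * uE hu e m α d * g⁻¹ = uE hu e m β b * uE hu e m α' d' * (uE hu e m β b)⁻¹ := by
      rw [← hconj, hgk]; group
    set X := g * uE hu e m α d * g⁻¹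
    have hXmem : X ∈ flagFix σ e := by
      rw [hX]; exact mul_mem (mul_mem (h.uE_mem hu hb) (h.uE_mem hu ha')) (inv_mem (h.uE_mem hu hb))
    have hXH : X ∈ H := H.mul_mem (H.mul_mem hgH hH) (H.inv_mem hgH)
    obtain ⟨a1, e1⟩ := h.flag_coord hu hXmem
    have h2 : X * uE hu e m β b = uE hu e m β b * uE hu e m α' d' := by rw [hX, inv_mul_cancel_right]
    obtain ⟨a3, e3⟩ := h.uE_mul hu a1 hb
    obtain ⟨a4, e4⟩ := h.uE_mul hu hb ha'
    rw [← e1, h2, e4] at e3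
    have h5 := (h.uE_inj hu a4 a3 e3).1
    refine (mem_vGrp hu h H).2 ⟨hB 3 σ f (mat X *ᵥ f), ?_, ?_⟩ <;>
      rw [show α' = hB 3 σ m (mat X *ᵥ f) by linear_combination h5]
    · exact a1
    · rw [← e1]; exact hXH

/-- Commutators of unipotent elements. -/
theorem commutator_mem {α β : F} (hα : α ∈ vGrp hu h H) (hβ : β ∈ vGrp hu h H) :
    σ β * α - σ α * β ∈ wGrp hu h H := by
  obtain ⟨d, ha, hA⟩ := (mem_vGrp hu h H).1 hα
  obtain ⟨d', hb, hB⟩ := (mem_vGrp hu h H).1 hβ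
  have hc : σ β * α - σ α * β + σ (σ β * α - σ α * β) = 0 := by
    rw [map_sub, map_mul, map_mul, hu.invol, hu.invol]; ring
  refine ⟨hc, ?_⟩
  obtain ⟨a1, e1⟩ := h.uE_mul hu ha hb
  obtain ⟨a2, e2⟩ := h.uE_mul hu hb ha
  obtain ⟨a3, e3⟩ := h.uE_mul hu (adm_zero.2 hc) a2
  have h4 : tr hu e (σ β * α - σ α * β) * (uE hu e m β d' * uE hu e m α d) = uE hu e m α d * uE hu e m β d' := by
    rw [e1, e2, ← h.uE_eq_tr hu, e3, map_zero, zero_mul, zero_add, sub_zero, add_comm β α]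
    congr 1
    ring
  rw [eq_mul_inv_of_mul_eq h4]
  exact H.mul_mem (H.mul_mem hA hB) (H.inv_mem (H.mul_mem hB hA))

/-- Squares of unipotent elements. -/
theorem square_mem [CharP F 2] {α : F} (hα : α ∈ vGrp hu h H) : α * σ α ∈ wGrp hu h H := by
  obtain ⟨d, ha, hA⟩ := (mem_vGrp hu h H).1 hα
  have hc : α * σ α + σ (α * σ α) = 0 := by
    rw [map_mul, hu.invol, mul_comm (σ α) α, CharTwo.add_self_eq_zero]
  refine ⟨hc, ?_⟩
  obtain ⟨-, e1⟩ := h.uE_mul hu ha ha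
  rw [CharTwo.add_self_eq_zero, CharTwo.add_self_eq_zero, zero_sub, CharTwo.neg_eq, mul_comm (σ α) α,
    h.uE_eq_tr hu] at e1
  rw [← e1]
  exact H.mul_mem hA hA

end Cfsg.Agent.MinIndexPSU3
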