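import Cfsg.Agent.MinIndexPSU3.Setting

/-!
The action of SU_3 on isotropic points; orders; eigenvalue homomorphisms.
-/

set_option autoImplicit false

namespace Cfsg.Agent.MinIndexPSU3

open AutPSU Matrix Classical.Herm

variable {q : ℕ} {F : Type*} [Field F] {σ : F →+* F}

/-- The isotropic points. -/
def Pts (_hu : UCtx σ q) : Type _ := Iso (hB 3 σ)

noncomputable instance instActPts (hu : UCtx σ q) : MulAction (Su 3 F q) (Pts hu) :=
  @MulAction.compHom (suG (hB 3 σ)) (Su 3 F q) (Pts hu) _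
    (inferInstanceAs (MulAction (suG (hB 3 σ)) (Iso (hB 3 σ)))) _ (Classical.suEquiv 3 hu.pow).toMonoidHom

/-- The stabiliser of a line. -/
def lineStab (v : Vn 3 F) : Subgroup (Su 3 F q) where
  carrier := {g | ∃ a : F, mat g *ᵥ v = a • v}
  mul_mem' {g g'} := by
    rintro ⟨a, ha⟩ ⟨b, hb⟩
    exact ⟨b * a, by rw [mat_mul_mulVec, hb, Matrix.mulVec_smul, ha, smul_smul]⟩
  one_mem' := ⟨1, by rw [mat_one_mulVec, one_smul]⟩
  inv_mem' {g} := by
    rintro ⟨a, ha⟩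
    refine ⟨a⁻¹, ?_⟩
    by_cases hv : v = 0
    · rw [hv, Matrix.mulVec_zero, smul_zero]
    have ha0 : a ≠ 0 := fun h0 => mat_mulVec_ne_zero g hv (by rw [ha, h0, zero_smul])
    have h1 := congrArg (mat g⁻¹ *ᵥ ·) ha
    simp only [mat_inv_mulVec, Matrix.mulVec_smul] at h1
    conv_rhs => rw [h1]
    rw [smul_smul, inv_mul_cancel₀ ha0, one_smul]

theorem mem_lineStab {v : Vn 3 F} {g : Su 3 F q} : g ∈ lineStab v ↔ ∃ a : F, mat g *ᵥ v = a • v := Iff.rfl

theorem conj_mem_lineStab {v : Vn 3 F} {g s : Su 3 F q} (hg : g ∈ lineStab v) :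
    s * g * s⁻¹ ∈ lineStab (mat s *ᵥ v) := by
  obtain ⟨a, ha⟩ := hg
  exact ⟨a, by rw [mat_mul_mulVec, mat_mul_mulVec, mat_inv_mulVec, ha, Matrix.mulVec_smul]⟩

/-- The eigenvalue of an element on a fixed line. -/
noncomputable def lamVal {v : Vn 3 F} (g : lineStab (q := q) v) : F := _root_.Classical.choose g.2

theorem lamVal_spec {v : Vn 3 F} (g : lineStab (q := q) v) : mat g.1 *ᵥ v = lamVal g • v :=
  _root_.Classical.choose_spec g.2

/-- The eigenvalue on a line. -/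
noncomputable def lam {v : Vn 3 F} (hv : v ≠ 0) : lineStab (q := q) v →* Fˣ :=
  MonoidHom.mk' (fun g => Units.mk0 (lamVal g) (fun h0 => mat_mulVec_ne_zero g.1 hv
      (by rw [lamVal_spec g, h0, zero_smul])))
    fun g g' => Units.ext (by
      simp only [Units.val_mk0, Units.val_mul]
      refine smul_left_injective F hv ?_
      show lamVal (g * g') • v = (lamVal g * lamVal g') • v
      rw [← lamVal_spec, Subgroup.coe_mul, mat_mul_mulVec, lamVal_spec g', Matrix.mulVec_smul, lamVal_spec g,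
        smul_smul, mul_comm])

theorem lam_spec {v : Vn 3 F} (hv : v ≠ 0) (g : lineStab (q := q) v) :
    mat g.1 *ᵥ v = (lam hv g : F) • v := lamVal_spec g

theorem lam_eq {v : Vn 3 F} (hv : v ≠ 0) (g : lineStab (q := q) v) {a : F} (h : mat g.1 *ᵥ v = a • v) :
    (lam hv g : F) = a := smul_left_injective F hv ((lam_spec hv g).symm.trans h)

variable [Fintype F] (hu : UCtx σ q)

/-- The point of an isotropic vector. -/
def mkPt (v : Vn 3 F) (hv0 : v ≠ 0) (hv : hB 3 σ v v = 0) : Pts hu := pt v hv0 hv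

include hu

instance instFinPts : Finite (Pts hu) := by
  haveI : Finite (Projectivization F (Vn 3 F)) := Quotient.finite _
  exact Finite.of_injective (β := Projectivization F (Vn 3 F)) (fun P : Pts hu => Subtype.val (show Iso (hB 3 σ) from P)) fun _ _ h => Subtype.ext h

theorem mkPt_eq_iff {v w : Vn 3 F} (hv0 : v ≠ 0) (hv : hB 3 σ v v = 0) (hw0 : w ≠ 0) (hw : hB 3 σ w w = 0) :
    mkPt hu v hv0 hv = mkPt hu w hw0 hw ↔ ∃ a : F, a • w = v := pt_eq_iff hv0 hv hw0 hw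

theorem exists_mkPt (P : Pts hu) : ∃ v hv0 hv, mkPt hu v hv0 hv = P := exists_pt P

theorem smul_mkPt (s : Su 3 F q) {v : Vn 3 F} (hv0 : v ≠ 0) (hv : hB 3 σ v v = 0) :
    s • mkPt hu v hv0 hv = mkPt hu (mat s *ᵥ v) (mat_mulVec_ne_zero s hv0) (by rw [hB_mat hu]; exact hv) :=
  smul_pt (Classical.suEquiv 3 hu.pow s) hv0 hv

theorem stabilizer_mkPt {v : Vn 3 F} (hv0 : v ≠ 0) (hv : hB 3 σ v v = 0) :
    MulAction.stabilizer (Su 3 F q) (mkPt hu v hv0 hv) = lineStab v := by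
  ext g
  rw [MulAction.mem_stabilizer_iff, smul_mkPt hu g hv0 hv, mkPt_eq_iff hu, mem_lineStab]
  exact ⟨fun ⟨a, h⟩ => ⟨a, h.symm⟩, fun ⟨a, h⟩ => ⟨a, h.symm⟩⟩

variable {e m f : Vn 3 F}

/-- Points other than the first of a frame. -/
theorem Fr.other (h : Fr σ e m f) {v : Vn 3 F} (hv0 : v ≠ 0) (hv : hB 3 σ v v = 0)
    (hne : ¬ ∃ a : F, v = a • e) : ∃ s ∈ flagFix (q := q) σ e, ∃ a : F, a ≠ 0 ∧ mat s *ᵥ f = a • v := by
  obtain ⟨q1, q2, q3, q4, q5, q6, q7, q8, q9⟩ := h.relations hu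
  have hev : hB 3 σ e v ≠ 0 := by
    intro h0
    have hv' := hv
    rw [h.repr hu v, h0] at hv'
    simp only [zero_smul, add_zero, map_add, map_smulₛₗ, LinearMap.add_apply, LinearMap.smul_apply, smul_eq_mul,
      RingHom.id_apply, q1, q5, q7, q9] at hv'
    have h2 : hB 3 σ m v = 0 := by
      simpa using hv'
    refine hne ⟨hB 3 σ f v, ?_⟩
    conv_lhs => rw [h.repr hu v, h0, h2]
    simp
  set x : Vn 3 F := (hB 3 σ e v)⁻¹ • v with hx
  have hex : hB 3 σ e x = 1 := by rw [hx, map_smul, smul_eq_mul, inv_mul_cancel₀ hev]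
  have hxx : hB 3 σ x x = 0 := by rw [hx, smul_self (hu.isHerm 3), hv, mul_zero]
  have hadm : Adm σ (hB 3 σ m x) (hB 3 σ f x) := by
    have h0 := hxx
    rw [h.repr hu x, hex] at h0
    simp only [map_add, map_smulₛₗ, LinearMap.add_apply, LinearMap.smul_apply, smul_eq_mul, RingHom.id_apply,
      q1, q2, q3, q4, q5, q6, q7, q8, q9, map_one] at h0
    simp only [Adm]
    linear_combination h0
  refine ⟨_, h.uE_mem hu hadm, _, inv_ne_zero hev, ?_⟩
  rw [h.uE_f hu hadm, ← hx]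
  conv_rhs => rw [h.repr hu x, hex, one_smul]

theorem two_transitive (a b c d : Pts hu) (hab : a ≠ b) (hcd : c ≠ d) :
    ∃ g : Su 3 F q, g • a = c ∧ g • b = d := by
  obtain ⟨va, ha0, ha, rfl⟩ := exists_mkPt hu a
  obtain ⟨vc, hc0, hc, rfl⟩ := exists_mkPt hu c
  obtain ⟨g, t, ht, hg⟩ := exists_su_pt hu ha0 ha hc0 hc
  have hga : g • mkPt hu va ha0 ha = mkPt hu vc hc0 hc := by
    rw [smul_mkPt hu g ha0 ha, mkPt_eq_iff hu]; exact ⟨t, hg.symm⟩
  obtain ⟨m, f, h⟩ := exists_fr hu hc0 hc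
  have hmove : ∀ P : Pts hu, P ≠ mkPt hu vc hc0 hc →
      ∃ s : Su 3 F q, s • mkPt hu vc hc0 hc = mkPt hu vc hc0 hc ∧ s • mkPt hu f h.hp.f_ne h.hp.ff = P := by
    intro P hP
    obtain ⟨v, hv0, hv, rfl⟩ := exists_mkPt hu P
    obtain ⟨s, hs, r, hr, hsf⟩ := h.other hu hv0 hv fun ⟨r, hr⟩ => hP ((mkPt_eq_iff hu hv0 hv hc0 hc).2 ⟨r, hr.symm⟩)
    refine ⟨s, ?_, ?_⟩
    · rw [smul_mkPt hu s hc0 hc, mkPt_eq_iff hu]; exact ⟨1, by rw [one_smul]; exact hs.1.symm⟩
    · rw [smul_mkPt hu s h.hp.f_ne h.hp.ff, mkPt_eq_iff hu]; exact ⟨r, hsf.symm⟩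
  obtain ⟨s₁, hs₁, hs₁'⟩ := hmove (g • b) (fun h0 => hab ((smul_left_cancel g) (hga.trans h0.symm)))
  obtain ⟨s₂, hs₂, hs₂'⟩ := hmove d (Ne.symm hcd)
  refine ⟨s₂ * s₁⁻¹ * g, ?_, ?_⟩
  · rw [mul_smul, mul_smul, hga, inv_smul_eq_iff.2 hs₁.symm, hs₂]
  · rw [mul_smul, mul_smul, ← hs₁', inv_smul_smul, hs₂']

theorem pretransitive : MulAction.IsPretransitive (Su 3 F q) (Pts hu) :=
  ⟨fun a b => by
    obtain ⟨va, ha0, ha, rfl⟩ := exists_mkPt hu a
    obtain ⟨vb, hb0, hb, rfl⟩ := exists_mkPt hu b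
    obtain ⟨g, t, ht, hg⟩ := exists_su_pt hu ha0 ha hb0 hb
    exact ⟨g, by rw [smul_mkPt hu g ha0 ha, mkPt_eq_iff hu]; exact ⟨t, hg.symm⟩⟩⟩

theorem card_pts : Nat.card (Pts hu) = q ^ 3 + 1 := by
  classical
  let Φ : Iso (hB 3 σ) × Fˣ → {v : Vn 3 F // v ≠ 0 ∧ hB 3 σ v v = 0} := fun x =>
    ⟨(x.2 : F) • x.1.1.rep, smul_ne_zero x.2.ne_zero x.1.1.rep_nonzero, by
      rw [smul_self (hu.isHerm 3), x.1.2, mul_zero]⟩
  have hΦ : Function.Bijective Φ := by
    constructor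
    · rintro ⟨P, a⟩ ⟨Q, b⟩ hab
      have h : (a : F) • P.1.rep = (b : F) • Q.1.rep := congrArg Subtype.val hab
      have hPQ : P = Q := Subtype.ext (by
        rw [← Projectivization.mk_rep P.1, ← Projectivization.mk_rep Q.1, Projectivization.mk_eq_mk_iff']
        exact ⟨(a : F)⁻¹ * b, by rw [mul_smul, ← h, inv_smul_smul₀ a.ne_zero]⟩)
      subst hPQ
      rw [Units.ext (smul_left_injective F P.1.rep_nonzero h)]
    · rintro ⟨v, hv0, hv⟩
      obtain ⟨a, ha⟩ := Projectivization.exists_smul_eq_mk_rep F v hv0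
      refine ⟨(pt v hv0 hv, a⁻¹), Subtype.ext ?_⟩
      show ((a⁻¹ : Fˣ) : F) • (Projectivization.mk F v hv0).rep = v
      rw [← ha, Units.smul_def, smul_smul, Units.inv_mul, one_smul]
  have h1 := Classical.card_herm_isotropic hu.toIsInvol hu.card_fix 3
  rw [if_neg (by decide : ¬ Even 3), show (3 : ℕ) - 1 = 2 from rfl] at h1
  have h2 : Nat.card {v : Vn 3 F // hB 3 σ v v = 0} =
      Nat.card {v : Vn 3 F // v ≠ 0 ∧ hB 3 σ v v = 0} + 1 := by
    rw [Nat.card_eq_fintype_card, Nat.card_eq_fintype_card, Fintype.card_subtype, Fintype.card_subtype,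
      show (Finset.univ.filter fun v : Vn 3 F => hB 3 σ v v = 0) =
        insert 0 (Finset.univ.filter fun v : Vn 3 F => v ≠ 0 ∧ hB 3 σ v v = 0) by
        ext v
        by_cases hv : v = 0 <;> simp [hv],
      Finset.card_insert_of_notMem (by simp)]
  have h3 := h2.symm.trans h1
  rw [← Nat.card_congr (Equiv.ofBijective Φ hΦ), Nat.card_prod, Nat.card_units, card_F hu] at h3
  have h4 : 0 < q ^ 2 - 1 := by
    have := hu.one_lt; have : 4 ≤ q ^ 2 := Nat.pow_le_pow_left (by omega : 2 ≤ q) 2; omega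
  exact Nat.eq_of_mul_eq_mul_right h4 (Nat.add_right_cancel h3)

theorem card_su : Nat.card (Su 3 F q) = (q ^ 3 + 1) * (q ^ 3 * (q ^ 2 - 1)) := by
  have h1 := Classical.card_SU_mul_eq_GU (n := 3) hu.toIsInvol hu.pow hu.card_fix (by omega)
  rw [Classical.card_GU_formula hu.toIsInvol hu.pow hu.card_fix, Finset.prod_range_succ,
    Finset.prod_range_succ, Finset.prod_range_one] at h1
  simp only [Nat.even_iff] at h1
  norm_num at h1
  exact Nat.eq_of_mul_eq_mul_left (Nat.add_pos_right q Nat.one_pos) (h1.trans (by ring))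

theorem card_lineStab {v : Vn 3 F} (hv0 : v ≠ 0) (hv : hB 3 σ v v = 0) :
    Nat.card (lineStab (q := q) v) = q ^ 3 * (q ^ 2 - 1) := by
  have := pretransitive hu
  have h1 := (lineStab (q := q) v).index_mul_card
  rw [card_su hu, ← stabilizer_mkPt hu hv0 hv, MulAction.index_stabilizer_of_transitive, card_pts hu] at h1
  rw [← stabilizer_mkPt hu hv0 hv]
  exact Nat.eq_of_mul_eq_mul_left (Nat.succ_pos (q ^ 3)) h1

end Cfsg.Agent.MinIndexPSU3
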