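import Cfsg.Agent.AutPSU.Torus

/-!
SU_3 on isotropic points: frames, the point stabiliser, its unipotent radical and torus.
-/

set_option autoImplicit false

namespace Cfsg.Agent.MinIndexPSU3

open AutPSU Matrix Classical.Herm

variable {q : ℕ} {F : Type*} [Field F] {σ : F →+* F}

/-- A frame: a hyperbolic pair and a unit vector orthogonal to it. -/
structure Fr (σ : F →+* F) (e m f : Vn 3 F) : Prop where
  hp : HP σ e f
  hm : InW σ e f m
  mm : hB 3 σ m m = 1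

/-- An element of the torus of a frame. -/
def IsT (σ : F →+* F) (e m f : Vn 3 F) (g : Su 3 F q) (l : F) : Prop :=
  mat g *ᵥ e = l • e ∧ mat g *ᵥ m = (σ l / l) • m ∧ mat g *ᵥ f = (σ l)⁻¹ • f

/-- Admissible parameters. -/
def Adm (σ : F →+* F) (α d : F) : Prop := d + σ d = -(σ α * α)

theorem adm_zero {c : F} : Adm σ 0 c ↔ c + σ c = 0 := by simp [Adm]

variable [Fintype F] (hu : UCtx σ q)
include hu

theorem Fr.relations {e m f : Vn 3 F} (h : Fr σ e m f) :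
    hB 3 σ e e = 0 ∧ hB 3 σ f f = 0 ∧ hB 3 σ e f = 1 ∧ hB 3 σ f e = 1 ∧ hB 3 σ e m = 0 ∧ hB 3 σ f m = 0 ∧
      hB 3 σ m e = 0 ∧ hB 3 σ m f = 0 ∧ hB 3 σ m m = 1 :=
  ⟨h.hp.ee, h.hp.ff, h.hp.ef, h.hp.fe hu, h.hm.1, h.hm.2, h.hm.a_e hu, h.hm.a_f hu, h.mm⟩

theorem exists_isotropic : ∃ v : Vn 3 F, v ≠ 0 ∧ hB 3 σ v v = 0 := by
  by_contra hc
  push Not at hc
  have h1 := Classical.card_herm_isotropic hu.toIsInvol hu.card_fix 3
  have h2 : Nat.card {v : Fin 3 → F // hB 3 σ v v = 0} ≤ 1 := by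
    refine Finite.card_le_one_iff_subsingleton.2 ⟨fun a b => Subtype.ext ?_⟩
    have e : ∀ v : {v : Fin 3 → F // hB 3 σ v v = 0}, (v : Fin 3 → F) = 0 := fun v => by
      by_contra hv
      exact hc v hv v.2
    rw [e a, e b]
  have h3 : 0 < (q ^ 3 + 1) * (q ^ 2 - 1) :=
    Nat.mul_pos (by omega) (by have := hu.one_lt; have : 4 ≤ q ^ 2 := Nat.pow_le_pow_left (by omega : 2 ≤ q) 2; omega)
  rw [if_neg (by decide : ¬ Even 3), show (3 : ℕ) - 1 = 2 from rfl] at h1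
  exact absurd (h1.symm.le.trans h2) (by omega)

theorem exists_fr {e : Vn 3 F} (he0 : e ≠ 0) (he : hB 3 σ e e = 0) : ∃ m f, Fr σ e m f := by
  obtain ⟨y, hy⟩ := exists_pairing (hu.isHerm 3) he0
  obtain ⟨t, ht⟩ := exists_d hu y
  have hye : hB 3 σ y e = 1 := by rw [← (hu.isHerm 3).symm, hy, map_one]
  have H : HP σ e (y + t • e) := ⟨he, by
    simp only [map_add, map_smulₛₗ, LinearMap.add_apply, LinearMap.smul_apply, smul_eq_mul, RingHom.id_apply, he,
      hy, hye]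
    linear_combination ht, by simp [he, hy]⟩
  obtain ⟨b, hb, hbW, -⟩ := line_of_three hu rfl H
  exact ⟨b, _, H, hbW, hb⟩

theorem exists_frame_base : ∃ e m f : Vn 3 F, Fr σ e m f := by
  obtain ⟨e, he0, he⟩ := exists_isotropic hu
  obtain ⟨m, f, h⟩ := exists_fr hu he0 he
  exact ⟨e, m, f, h⟩

variable {e m f : Vn 3 F}

omit [Fintype F] hu in
theorem Fr.m_ne (h : Fr σ e m f) : m ≠ 0 := fun h0 => by
  have := h.mm
  rw [h0, map_zero] at this
  exact zero_ne_one this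

theorem Fr.conj (h : Fr σ e m f) (s : Su 3 F q) : Fr σ (mat s *ᵥ e) (mat s *ᵥ m) (mat s *ᵥ f) :=
  ⟨⟨by rw [hB_mat hu]; exact h.hp.ee, by rw [hB_mat hu]; exact h.hp.ff, by rw [hB_mat hu]; exact h.hp.ef⟩,
    ⟨by rw [hB_mat hu]; exact h.hm.1, by rw [hB_mat hu]; exact h.hm.2⟩, by rw [hB_mat hu]; exact h.mm⟩

theorem Fr.symm (h : Fr σ e m f) : Fr σ f m e :=
  ⟨⟨h.hp.ff, h.hp.ee, h.hp.fe hu⟩, ⟨h.hm.2, h.hm.1⟩, h.mm⟩

theorem Fr.repr (h : Fr σ e m f) (x : Vn 3 F) :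
    x = hB 3 σ f x • e + hB 3 σ m x • m + hB 3 σ e x • f := by
  obtain ⟨c, hc⟩ := good_multiples hu rfl h.hp h.hm h.m_ne (h.hp.proj_mem hu x)
  obtain ⟨-, -, -, -, -, -, r7, r8, r9⟩ := h.relations hu
  have hx := eq_proj (σ := σ) e f x
  rw [hc] at hx
  have hcm : c = hB 3 σ m x := by
    conv_rhs => rw [hx]
    simp only [map_add, map_smul, smul_eq_mul, r7, r8, r9]
    ring
  conv_lhs => rw [hx, hcm]
  abel

theorem Fr.ext (h : Fr σ e m f) {g g' : Su 3 F q} (h1 : mat g *ᵥ e = mat g' *ᵥ e)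
    (h2 : mat g *ᵥ m = mat g' *ᵥ m) (h3 : mat g *ᵥ f = mat g' *ᵥ f) : g = g' := by
  refine su_ext_mulVec fun x => ?_
  rw [h.repr hu x]
  simp only [Matrix.mulVec_add, Matrix.mulVec_smul, h1, h2, h3]

theorem Fr.det (h : Fr σ e m f) {g : Su 3 F q} {l μ r : F} (h1 : mat g *ᵥ e = l • e)
    (h2 : mat g *ᵥ m = μ • m) (h3 : mat g *ᵥ f = r • f) : l * μ * r = 1 := by
  let P : Matrix (Fin 3) (Fin 3) F := Matrix.of fun i j => ![e, m, f] j i
  have hPv : ∀ w : Fin 3 → F, P *ᵥ w = w 0 • e + w 1 • m + w 2 • f := fun w => by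
    funext i
    simp [P, Matrix.mulVec, dotProduct, Fin.sum_univ_three, mul_comm]
  have hP : IsUnit P.det := by
    rw [← Matrix.isUnit_iff_isUnit_det, ← Matrix.mulVec_surjective_iff_isUnit]
    intro x
    exact ⟨![hB 3 σ f x, hB 3 σ m x, hB 3 σ e x], by rw [hPv]; exact (h.repr hu x).symm⟩
  have hm : mat g * P = P * Matrix.diagonal ![l, μ, r] := by
    refine Matrix.ext_of_mulVec_single fun j => ?_
    rw [← Matrix.mulVec_mulVec, ← Matrix.mulVec_mulVec, hPv, hPv]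
    simp only [Matrix.mulVec_add, Matrix.mulVec_smul, h1, h2, h3]
    fin_cases j <;> simp
  have hd := congrArg Matrix.det hm
  rw [Matrix.det_mul, Matrix.det_mul, g.1.2, Matrix.det_diagonal, Fin.prod_univ_three, one_mul] at hd
  have := mul_left_cancel₀ hP.ne_zero ((mul_one P.det).trans hd)
  simpa using this.symm

/-- An element fixing the points of a frame's isotropic vectors is in the torus. -/
theorem Fr.torus_of (h : Fr σ e m f) {g : Su 3 F q} {l r : F} (h1 : mat g *ᵥ e = l • e)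
    (h3 : mat g *ᵥ f = r • f) : l ≠ 0 ∧ IsT σ e m f g l := by
  have hl : l ≠ 0 := fun h0 => mat_mulVec_ne_zero g h.hp.e_ne (by rw [h1, h0, zero_smul])
  have hr : r ≠ 0 := fun h0 => mat_mulVec_ne_zero g h.hp.f_ne (by rw [h3, h0, zero_smul])
  have hsl : σ l ≠ 0 := (map_ne_zero σ).2 hl
  have hlr : σ l * r = 1 := by
    have h0 := hB_mat hu g e f
    simp only [h1, h3, map_smulₛₗ, LinearMap.smul_apply, RingHom.id_apply, smul_eq_mul, h.hp.ef, mul_one] at h0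
    linear_combination h0
  have hmW : InW σ e f (mat g *ᵥ m) := by
    constructor
    · have h0 := hB_mat hu g e m
      rw [h1, map_smulₛₗ, LinearMap.smul_apply, h.hm.1, smul_eq_mul, mul_eq_zero] at h0
      exact h0.resolve_left hsl
    · have h0 := hB_mat hu g f m
      rw [h3, map_smulₛₗ, LinearMap.smul_apply, h.hm.2, smul_eq_mul, mul_eq_zero] at h0
      exact h0.resolve_left ((map_ne_zero σ).2 hr)
  obtain ⟨μ, hμ⟩ := good_multiples hu rfl h.hp h.hm h.m_ne hmW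
  have hd := h.det hu h1 hμ h3
  have hr' : r = (σ l)⁻¹ := eq_inv_of_mul_eq_one_right hlr
  refine ⟨hl, h1, ?_, by rw [h3, hr']⟩
  rw [hμ]
  congr 1
  rw [eq_div_iff hl]
  calc μ * l = μ * l * (σ l * r) := by rw [hlr, mul_one]
    _ = σ l * (l * μ * r) := by ring
    _ = σ l := by rw [hd, mul_one]

/-- The Eichler element with coordinates. -/
noncomputable abbrev uE (e m : Vn 3 F) (α d : F) : Su 3 F q := eS hu e (α • m) d

theorem Fr.isE (h : Fr σ e m f) {α d : F} (ha : Adm σ α d) : IsE σ e (α • m) d := by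
  refine h.hp.isE hu (h.hm.smul α) ?_
  rw [ha, smul_self (hu.isHerm 3), h.mm, mul_one, mul_comm]

theorem Fr.uE_e (h : Fr σ e m f) {α d : F} (ha : Adm σ α d) : mat (uE hu e m α d) *ᵥ e = e :=
  eS_fix hu (h.isE hu ha)

theorem Fr.uE_f (h : Fr σ e m f) {α d : F} (ha : Adm σ α d) :
    mat (uE hu e m α d) *ᵥ f = d • e + α • m + f := by
  rw [h.hp.eS_f hu (h.hm.smul α) (h.isE hu ha).tr]
  abel

theorem Fr.uE_m (h : Fr σ e m f) {α d : F} (ha : Adm σ α d) :
    mat (uE hu e m α d) *ᵥ m = (-σ α) • e + m := by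
  rw [eS_mulVec hu (h.isE hu ha), h.hm.1]
  simp only [zero_smul, add_zero, mul_zero, zero_sub, map_smulₛₗ, LinearMap.smul_apply, smul_eq_mul, h.mm, mul_one]
  rw [add_comm]

theorem Fr.uE_mem (h : Fr σ e m f) {α d : F} (ha : Adm σ α d) : uE hu e m α d ∈ flagFix σ e :=
  eS_mem_flagFix hu (h.isE hu ha)

/-- The coordinates of an element trivial on the flag. -/
theorem Fr.flag_coord (h : Fr σ e m f) {s : Su 3 F q} (hs : s ∈ flagFix σ e) :
    Adm σ (hB 3 σ m (mat s *ᵥ f)) (hB 3 σ f (mat s *ᵥ f)) ∧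
      s = uE hu e m (hB 3 σ m (mat s *ᵥ f)) (hB 3 σ f (mat s *ᵥ f)) := by
  obtain ⟨-, r2, -, r4, -, r6, r7, r8, r9⟩ := h.relations hu
  obtain ⟨a, d, hfa, hE, rfl⟩ := flagFix_eq hu h.hp.ee h.hp.ff h.hp.ef hs
  have haW : InW σ e f a := ⟨hE.ea hu, hfa⟩
  obtain ⟨α, rfl⟩ := good_multiples hu rfl h.hp h.hm h.m_ne haW
  have ha : Adm σ α d := by
    rw [Adm, hE.tr, smul_self (hu.isHerm 3), h.mm, mul_one, mul_comm]
  have e1 : hB 3 σ m (mat (eS hu e (α • m) d) *ᵥ f) = α := by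
    rw [h.uE_f hu ha]; simp only [map_add, map_smul, smul_eq_mul, r7, r8, r9]; ring
  have e2 : hB 3 σ f (mat (eS hu e (α • m) d) *ᵥ f) = d := by
    rw [h.uE_f hu ha]; simp only [map_add, map_smul, smul_eq_mul, r2, r4, r6]; ring
  rw [e1, e2]
  exact ⟨ha, rfl⟩

theorem Fr.uE_mul (h : Fr σ e m f) {α β d d' : F} (ha : Adm σ α d) (hb : Adm σ β d') :
    Adm σ (α + β) (d + d' - σ α * β) ∧
      uE hu e m α d * uE hu e m β d' = uE hu e m (α + β) (d + d' - σ α * β) := by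
  constructor
  · simp only [Adm, map_sub, map_add, map_mul, hu.invol] at *
    linear_combination ha + hb
  · rw [uE, uE, eS_mul hu (h.isE hu ha) (h.isE hu hb), uE, add_smul]
    congr 1
    simp only [map_smulₛₗ, LinearMap.smul_apply, smul_eq_mul, RingHom.id_apply, h.mm]
    ring

theorem Fr.uE_inj (h : Fr σ e m f) {α β d d' : F} (ha : Adm σ α d) (hb : Adm σ β d')
    (he : uE hu e m α d = uE hu e m β d') : α = β ∧ d = d' := by
  obtain ⟨h1, h2⟩ := h.hp.eS_inj hu (h.hm.smul α) (h.hm.smul β) (h.isE hu ha).tr (h.isE hu hb).tr he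
  exact ⟨smul_left_injective F h.m_ne h1, h2⟩

theorem Fr.uE_zero (h : Fr σ e m f) : uE hu e m 0 (0 : F) = 1 := by
  rw [uE, zero_smul, eS_zero hu h.hp.ee]

theorem Fr.uE_eq_tr (h : Fr σ e m f) (c : F) : uE hu e m 0 c = tr hu e c := by
  rw [uE, zero_smul]

theorem Fr.uE_eq_one (h : Fr σ e m f) {α d : F} (ha : Adm σ α d) :
    uE hu e m α d = 1 ↔ α = 0 ∧ d = 0 := by
  constructor
  · intro h1
    exact h.uE_inj hu ha (adm_zero.2 (by simp)) (h1.trans (h.uE_zero hu).symm)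
  · rintro ⟨rfl, rfl⟩; exact h.uE_zero hu

/-- The torus acts on the parameters. -/
theorem Fr.uE_conj (h : Fr σ e m f) {g : Su 3 F q} {l : F} (hl : l ≠ 0) (hg : IsT σ e m f g l) {α d : F}
    (ha : Adm σ α d) : Adm σ (σ l * σ l / l * α) (l * σ l * d) ∧
      g * uE hu e m α d * g⁻¹ = uE hu e m (σ l * σ l / l * α) (l * σ l * d) := by
  have hsl : σ l ≠ 0 := (map_ne_zero σ).2 hl
  constructor
  · have ha' : d + σ d = -(σ α * α) := ha
    simp only [Adm, map_mul, map_div₀, hu.invol]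
    field_simp
    linear_combination ha'
  · have hE := h.isE hu ha
    rw [uE, suConj hu g hE, hg.1, Matrix.mulVec_smul, hg.2.1, smul_smul]
    have hE' : IsE σ e ((α * (σ l / l)) • m) d := by
      refine h.hp.isE hu (h.hm.smul _) ?_
      rw [hE.tr, smul_self (hu.isHerm 3), smul_self (hu.isHerm 3), map_mul, map_div₀, hu.invol]
      field_simp
    rw [eS_smul hu hE', smul_smul, uE]
    congr 2
    ring

theorem IsT.mul {g g' : Su 3 F q} {l l' : F} (hg : IsT σ e m f g l) (hg' : IsT σ e m f g' l') :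
    IsT σ e m f (g * g') (l * l') := by
  refine ⟨?_, ?_, ?_⟩
  · rw [mat_mul_mulVec, hg'.1, Matrix.mulVec_smul, hg.1, smul_smul, mul_comm]
  · rw [mat_mul_mulVec, hg'.2.1, Matrix.mulVec_smul, hg.2.1, smul_smul, map_mul, div_mul_div_comm]
    congr 1
    ring
  · rw [mat_mul_mulVec, hg'.2.2, Matrix.mulVec_smul, hg.2.2, smul_smul, map_mul, _root_.mul_inv_rev]

theorem Fr.isT_unique (h : Fr σ e m f) {g g' : Su 3 F q} {l : F} (hg : IsT σ e m f g l)
    (hg' : IsT σ e m f g' l) : g = g' :=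
  h.ext hu (hg.1.trans hg'.1.symm) (hg.2.1.trans hg'.2.1.symm) (hg.2.2.trans hg'.2.2.symm)

theorem IsT.conj {g : Su 3 F q} {l : F} (hg : IsT σ e m f g l) (s : Su 3 F q) :
    IsT σ (mat s *ᵥ e) (mat s *ᵥ m) (mat s *ᵥ f) (s * g * s⁻¹) l := by
  refine ⟨?_, ?_, ?_⟩ <;> rw [mat_mul_mulVec, mat_mul_mulVec, mat_inv_mulVec]
  · rw [hg.1, Matrix.mulVec_smul]
  · rw [hg.2.1, Matrix.mulVec_smul]
  · rw [hg.2.2, Matrix.mulVec_smul]

/-- Every element fixing the point of e is a product of a unipotent and a torus element. -/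
theorem Fr.decomp (h : Fr σ e m f) {g : Su 3 F q} {l : F} (hg : mat g *ᵥ e = l • e) :
    l ≠ 0 ∧ ∃ s ∈ flagFix σ e, ∃ k, IsT σ e m f k l ∧ g = s * k := by
  obtain ⟨-, -, r3, -, -, -, -, -, -⟩ := h.relations hu
  have hl : l ≠ 0 := fun h0 => mat_mulVec_ne_zero g h.hp.e_ne (by rw [hg, h0, zero_smul])
  set x : Vn 3 F := σ l • mat g *ᵥ f with hx
  have hxx : hB 3 σ x x = 0 := by rw [hx, smul_self (hu.isHerm 3), hB_mat hu, h.hp.ff, mul_zero]
  have hex : hB 3 σ e x = 1 := by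
    have h0 := hB_mat hu g e f
    rw [hg, map_smulₛₗ, LinearMap.smul_apply, smul_eq_mul, r3] at h0
    rw [hx, map_smul, smul_eq_mul, h0]
  have hadm : Adm σ (hB 3 σ m x) (hB 3 σ f x) := by
    have h0 := hxx
    rw [h.repr hu x, hex] at h0
    obtain ⟨q1, q2, q3, q4, q5, q6, q7, q8, q9⟩ := h.relations hu
    simp only [map_add, map_smulₛₗ, LinearMap.add_apply, LinearMap.smul_apply, smul_eq_mul, RingHom.id_apply,
      q1, q2, q3, q4, q5, q6, q7, q8, q9, map_one] at h0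
    simp only [Adm]
    linear_combination h0
  set s := uE hu e m (hB 3 σ m x) (hB 3 σ f x) with hs
  have hsm : s ∈ flagFix σ e := h.uE_mem hu hadm
  have hsf : mat s *ᵥ f = x := by
    rw [hs, h.uE_f hu hadm]
    conv_rhs => rw [h.repr hu x, hex, one_smul]
  refine ⟨hl, s, hsm, s⁻¹ * g, ?_, (mul_inv_cancel_left s g).symm⟩
  have h1 : mat (s⁻¹ * g) *ᵥ e = l • e := by
    rw [mat_mul_mulVec, hg, Matrix.mulVec_smul, ((flagFix σ e).inv_mem hsm).1]
  have h3 : mat (s⁻¹ * g) *ᵥ f = (σ l)⁻¹ • f := by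
    have hgf : mat g *ᵥ f = (σ l)⁻¹ • x := by
      rw [hx, smul_smul, inv_mul_cancel₀ ((map_ne_zero σ).2 hl), one_smul]
    rw [mat_mul_mulVec, hgf, Matrix.mulVec_smul, ← hsf, mat_inv_mulVec]
  exact (h.torus_of hu h1 h3).2

theorem Fr.mem_flag_iff (h : Fr σ e m f) {g : Su 3 F q} : g ∈ flagFix σ e ↔ mat g *ᵥ e = e := by
  refine ⟨fun hg => hg.1, fun hg => ?_⟩
  obtain ⟨-, s, hs, k, hk, rfl⟩ := h.decomp hu (l := 1) (by rw [one_smul]; exact hg)
  have : k = 1 := h.isT_unique hu hk ⟨by simp [mat_one_mulVec], by simp [mat_one_mulVec], by simp [mat_one_mulVec]⟩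
  rw [this, mul_one]
  exact hs

end Cfsg.Agent.MinIndexPSU3
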